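import Cfsg.Agent.GWDihedral.Kill.Top
import Cfsg.Agent.GWDihedral.Local.Full
import Cfsg.Agent.GWDihedral.Mixed.Basics
import Cfsg.Agent.GWDihedral.Proper.Top

/-!
GW dihedral, the end: decompositions of `O`, the primes at which both reflections move a Sylow subgroup.
-/

set_option autoImplicit false
set_option linter.unusedSectionVars false
set_option linter.style.haveILetI false

namespace Cfsg.Lib.GWD.Kill

open Subgroup Cfsg.Lib.GenDihedral
open Cfsg.Lib.GW (Core)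

universe u

variable {G : Type u} [Group G] [Finite G]

/-- `V.u` inverts an element of order `q` of `O`. -/
def Inv (V : GW.Frame G) (q : ℕ) : Prop := ∃ e ∈ V.O, orderOf e = q ∧ V.u * e * V.u⁻¹ = e⁻¹

/-- An element of odd order fixed and inverted by the same element is trivial. -/
theorem eq_one_of_fix_inv {g x : G} (ho : Odd (orderOf x)) (h1 : g * x * g⁻¹ = x) (h2 : g * x * g⁻¹ = x⁻¹) :
    x = 1 := by
  refine eq_one_of_sq_of_odd ?_ ho
  rw [h1] at h2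
  nth_rw 1 [h2]
  exact inv_mul_cancel x

section four

variable (V : GW.Frame G)

theorem W_conj_inverted {w x : G} (hw : w ∈ V.W) (hxi : V.u * x * V.u⁻¹ = x⁻¹) :
    V.u * (w * x * w⁻¹) * V.u⁻¹ = (w * x * w⁻¹)⁻¹ := by
  have hc : V.u * w * V.u⁻¹ = w := by rw [← (V.mem_W.1 hw).2, mul_inv_cancel_right]
  rw [← _root_.conj_mul, ← _root_.conj_mul, ← _root_.conj_inv, hc, hxi]
  group

theorem exists_mul {o : G} (ho : o ∈ V.O) :
    ∃ w ∈ V.W, ∃ i ∈ V.O, V.u * i * V.u⁻¹ = i⁻¹ ∧ o = w * i := by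
  obtain ⟨w, hw, i, hi, hwu, hiu, e⟩ :=
    Cfsg.Lib.GW.Mixed.Invol.decomp V.u_sq V.odd_card_O (V.U_le_normalizer_O V.u_mem_U) ho
  exact ⟨w, V.mem_W.2 ⟨hw, hwu.symm⟩, i, hi, hiu, e⟩

theorem W_le_normalizer_T : V.W ≤ normalizer (V.T : Set G) := fun w hw => by
  refine Cfsg.Lib.GenDihedral.mem_normalizer_closure fun x hx => subset_closure ?_
  exact ⟨mul_mem (mul_mem (V.W_le hw) hx.1) (inv_mem (V.W_le hw)), W_conj_inverted V hw hx.2⟩

theorem O_le_normalizer_T : V.O ≤ normalizer (V.T : Set G) := fun o ho => by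
  obtain ⟨w, hw, i, hi, hiu, rfl⟩ := exists_mul V ho
  exact mul_mem (W_le_normalizer_T V hw) (le_normalizer (V.mem_T hi hiu))

/-- An invariant Sylow subgroup of `O` is moved by `u` when `u` inverts an element of order `q`. -/
theorem moved_of_inv {q : ℕ} (hq : q.Prime) (hinv : Inv V q) {S : Subgroup G} (hS : S ≤ V.O) (hSp : IsPGroup q S)
    (hSs : ¬ q ∣ S.relIndex V.O) (hSU : V.U ≤ normalizer (S : Set G)) : ∃ x ∈ S, V.u * x * V.u⁻¹ ≠ x := by
  haveI : Fact q.Prime := ⟨hq⟩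
  by_contra h
  push Not at h
  obtain ⟨e, he, heq, hei⟩ := hinv
  have heN : V.U ≤ normalizer ((zpowers e : Subgroup G) : Set G) := by
    refine (V.U_le_iff).2 ⟨?_, ?_⟩
    · refine centralizer_le_normalizer _ (mem_centralizer_iff.2 fun z hz => ?_)
      obtain ⟨n, rfl⟩ := mem_zpowers_iff.1 hz
      exact ((show Commute e V.t from V.mem_C.1 (V.O_le he)).zpow_left n).eq
    · rw [zpowers_eq_closure]
      refine Cfsg.Lib.GenDihedral.mem_normalizer_closure fun x hx => ?_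
      rw [Set.mem_singleton_iff.1 hx, hei]
      exact inv_mem (subset_closure rfl)
  obtain ⟨P, heP, hP, hPp, hPs, hPU⟩ := V.exists_sylow_over V.odd_card_O V.U_le_normalizer_O (zpowers_le.2 he)
    (IsPGroup.of_card (n := 1) (by rw [Nat.card_zpowers, heq, pow_one])) heN
  obtain ⟨c, hc, hcU, hcP⟩ := V.conj_sylow V.odd_card_O V.U_le_normalizer_O hP hPp hPs hPU hS hSp hSs hSU
  have h1 : V.u * (c * e * c⁻¹) * V.u⁻¹ = c * e * c⁻¹ :=
    h _ (hcP ▸ ⟨e, heP (mem_zpowers e), rfl⟩)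
  have hcu : V.u * c * V.u⁻¹ = c := by rw [← (V.mem_centralizer_U.1 hcU).2, mul_inv_cancel_right]
  rw [← _root_.conj_mul, ← _root_.conj_mul, ← _root_.conj_inv, hcu, hei] at h1
  refine hq.one_lt.ne ?_
  rw [← heq, eq_one_of_fix_inv (Cfsg.Lib.GW.Frame.odd_orderOf V.odd_card_O he)
    ((MulAut.conj c).injective (show c * (V.u * e * V.u⁻¹) * c⁻¹ = c * e * c⁻¹ by rw [hei]; exact h1)) hei, orderOf_one]

end four

variable (D : Frame G)

/-- Conjugates of `r` in the Sylow subgroup by its elements. -/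
def Class1 (w : G) : Prop := ∃ c ∈ D.S, c * D.r * c⁻¹ = w

theorem class1_r : Class1 D D.r := ⟨1, one_mem _, by simp⟩

theorem s_conj_r : ∀ k : ℤ, D.s ^ k * D.r * (D.s ^ k)⁻¹ = D.r * D.s ^ (-(2 * k)) := fun k => by
  have hrel : D.r * D.s ^ k * D.r⁻¹ = (D.s ^ k)⁻¹ := by rw [← conj_zpow, D.rel, inv_zpow]
  have h1 : D.s ^ k * D.r = D.r * (D.s ^ k)⁻¹ := by
    rw [← hrel, inv_of_two D.r_order, ← mul_assoc, ← mul_assoc, mul_self_of_two D.r_order, one_mul]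
  rw [h1, mul_assoc, ← zpow_neg, ← zpow_add]
  congr 2; ring

theorem class1_tr {w : G} (hw : Class1 D w) : Class1 D (D.t * w) := by
  obtain ⟨c, hc, rfl⟩ := hw
  have h3 := D.three_le
  refine ⟨c * D.s ^ (2 ^ (D.n - 3) : ℕ), mul_mem hc (pow_mem D.s_mem_S _), ?_⟩
  have e : D.s ^ (2 ^ (D.n - 3) : ℕ) * D.r * (D.s ^ (2 ^ (D.n - 3) : ℕ))⁻¹ = D.t * D.r := by
    have h := s_conj_r D (2 ^ (D.n - 3) : ℕ)
    rw [zpow_natCast] at h
    rw [h, D.r_comm, show -(2 * ((2 ^ (D.n - 3) : ℕ) : ℤ)) = -((2 ^ (D.n - 2) : ℕ) : ℤ) by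
      rw [show D.n - 2 = D.n - 3 + 1 by omega, pow_succ]; push_cast; ring, zpow_neg, zpow_natCast]
    exact congrArg (D.r * ·) (inv_of_two D.t_order)
  rw [mul_inv_rev, show c * D.s ^ (2 ^ (D.n - 3) : ℕ) * D.r * ((D.s ^ (2 ^ (D.n - 3) : ℕ))⁻¹ * c⁻¹) =
    c * (D.s ^ (2 ^ (D.n - 3) : ℕ) * D.r * (D.s ^ (2 ^ (D.n - 3) : ℕ))⁻¹) * c⁻¹ by group, e,
    ← _root_.conj_mul, mul_inv_eq_iff_eq_mul.2 (D.S_comm_t hc)]

theorem class1_order {w : G} (hw : Class1 D w) : orderOf w = 2 := by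
  obtain ⟨c, -, rfl⟩ := hw
  rw [← MulAut.conj_apply, MulEquiv.orderOf_eq, D.r_order]

theorem class1_comm_t {w : G} (hw : Class1 D w) : w * D.t = D.t * w := by
  obtain ⟨c, hc, rfl⟩ := hw
  exact D.S_comm_t (mul_mem (mul_mem hc D.r_mem_S) (inv_mem hc))

/-- An element inverted by `t` and centralised by a conjugate of `r` is conjugate to an element of `O` inverted
by `r`; the conjugating element maps that conjugate to `t`. -/
theorem exists_to_inverted (hm : Minimal G) {v w : G} (hv : Odd (orderOf v)) (hw : Class1 D w)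
    (hvw : v * w = w * v) (hvt : D.t * v * D.t⁻¹ = v⁻¹) :
    ∃ g : G, g * w * g⁻¹ = D.t ∧ g * v * g⁻¹ ∈ D.O ∧ D.r * (g * v * g⁻¹) * D.r⁻¹ = (g * v * g⁻¹)⁻¹ := by
  obtain ⟨c, hc, rfl⟩ := hw
  have hrr : D.σ₁ * D.σ₁ * D.r * (D.σ₁ * D.σ₁)⁻¹ = D.t := by
    have h := D.four₁.σ_v
    rw [← Cfsg.Lib.GenDihedral.conj_conj, D.σ₁_r]
    exact h
  have htt : D.σ₁ * D.σ₁ * D.t * (D.σ₁ * D.σ₁)⁻¹ = D.t * D.r := by
    rw [← Cfsg.Lib.GenDihedral.conj_conj, show D.σ₁ * D.t * D.σ₁⁻¹ = D.r from D.σ₁_t, D.σ₁_r]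
    rfl
  set g := D.σ₁ * D.σ₁ * c⁻¹ with hg
  have hgw : g * (c * D.r * c⁻¹) * g⁻¹ = D.t := by
    rw [hg, ← hrr]; group
  have hgt : g * D.t * g⁻¹ = D.t * D.r := by
    rw [hg, ← Cfsg.Lib.GenDihedral.conj_conj, mul_inv_eq_iff_eq_mul.2 (D.S_comm_t (inv_mem hc)), htt]
  have hO : g * v * g⁻¹ ∈ D.O := by
    refine D.mem_O.2 ⟨?_, ?_⟩
    · rw [← hgw, _root_.conj_mul, _root_.conj_mul, hvw]
    · rwa [← MulAut.conj_apply, MulEquiv.orderOf_eq]
  refine ⟨g, hgw, hO, ?_⟩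
  have h1 : D.t * D.r * (g * v * g⁻¹) * (D.t * D.r)⁻¹ = (g * v * g⁻¹)⁻¹ := by
    rw [← hgt, show g * D.t * g⁻¹ * (g * v * g⁻¹) * (g * D.t * g⁻¹)⁻¹ = g * (D.t * v * D.t⁻¹) * g⁻¹ by group, hvt]
    group
  have h2 : D.t * (g * v * g⁻¹) * D.t⁻¹ = g * v * g⁻¹ := by
    rw [← (D.mem_O.1 hO).1, mul_inv_cancel_right]
  calc D.r * (g * v * g⁻¹) * D.r⁻¹ = D.r * (D.t * (g * v * g⁻¹) * D.t⁻¹) * D.r⁻¹ := by rw [h2]
    _ = _ := by rw [Cfsg.Lib.GenDihedral.conj_conj, ← D.r_comm, h1]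

theorem C_le_normalizer {X : Subgroup G} (hO : D.O ≤ normalizer (X : Set G)) (hs : D.s ∈ normalizer (X : Set G))
    (hr : D.r ∈ normalizer (X : Set G)) : D.C ≤ normalizer (X : Set G) := by
  intro x hx
  obtain ⟨l, hl, u, hu, rfl⟩ := D.C_structure x hx
  exact mul_mem (hO hl) (D.S_le_normalizer_of hs hr hu)

/-- No non-trivial subgroup of `O` is normal in `C` and normalised by a rotation. -/
theorem no_invariant (hm : Minimal G) (hmax : IsCoatom D.C) {X : Subgroup G} (hne : X ≠ ⊥) (hX : X ≤ D.O)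
    (hC : D.C ≤ normalizer (X : Set G)) (hσ : D.σ₁ ∈ normalizer (X : Set G)) : False := by
  haveI := hm.simple
  have hlt : D.C < normalizer (X : Set G) := lt_of_le_of_ne hC fun e => by
    have h : D.σ₁ * D.t = D.t * D.σ₁ := D.mem_C.1 (e ▸ hσ)
    refine D.t_ne_r ?_
    have h1 : D.σ₁ * D.t * D.σ₁⁻¹ = D.r := D.σ₁_t
    rw [h, mul_inv_cancel_right] at h1
    exact h1
  have htop := normalizer_eq_top_iff.1 (hmax.2 _ hlt)
  rcases htop.eq_bot_or_eq_top with e | e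
  · exact hne e
  · exact hmax.1 (top_le_iff.1 (e ▸ hX.trans D.O_le))

/-- In an abelian `[O, r]` the elements of `q`-power order lie in `O_q(O)`. -/
theorem mem_R (habel : IsMulCommutative D.four₁.T) {q k : ℕ} {e : G} (he : e ∈ D.four₁.T)
    (hek : orderOf e = q ^ k) : e ∈ D.four₁.R q := by
  haveI := habel
  have hX : zpowers (⟨e, he⟩ : D.four₁.T) ≤ Cfsg.pCore q D.four₁.T :=
    Cfsg.Lib.Components.le_pCore (N := zpowers (⟨e, he⟩ : D.four₁.T))
      (IsPGroup.of_card (n := k) (by rw [Nat.card_zpowers, Subgroup.orderOf_mk, hek]))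
  set Q := (Cfsg.pCore q D.four₁.T).map D.four₁.T.subtype with hQ
  have hQO : Q ≤ D.four₁.O := (map_subtype_le _).trans D.four₁.T_le
  have hn : D.four₁.O ≤ normalizer (Q : Set G) :=
    (O_le_normalizer_T D.four₁).trans (Cfsg.Lib.OddP.le_normalizer_map_of_char _)
  haveI : (Q.subgroupOf D.four₁.O).Normal := normal_subgroupOf_of_le_normalizer hn
  have h2 : Q.subgroupOf D.four₁.O ≤ Cfsg.pCore q D.four₁.O :=
    Cfsg.Lib.Components.le_pCore ((Cfsg.Lib.Components.isPGroup_pCore q).map D.four₁.T.subtype).comap_subtype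
  show e ∈ (Cfsg.pCore q D.four₁.O).map D.four₁.O.subtype
  exact ⟨⟨e, D.four₁.T_le he⟩, h2 (mem_subgroupOf.2 ⟨⟨e, he⟩, hX (mem_zpowers _), rfl⟩), rfl⟩

/-- Both reflections move an invariant Sylow subgroup: the local facts hold at both four-groups. -/
theorem local_of_moved (hm : Minimal G) (hmax : IsCoatom D.C) {q : ℕ} (hq : q.Prime) {x : G}
    (hx : x ∈ D.four₁.R q) (hxr : D.r * x * D.r⁻¹ ≠ x)
    (h₂ : (∃ y ∈ D.four₁.R q, D.r * D.s * y * (D.r * D.s)⁻¹ ≠ y) ∨ Inv D.four₂ q) :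
    ∃ S : Subgroup G, LocalSpec D.four₁ q S ∧ LocalSpec D.four₂ q S := by
  obtain ⟨S, hd, hSn, hRS, hmv⟩ := Mixed.exists_sylData D hq hx hxr
  have hrn : D.r ∈ normalizer (S : Set G) := hSn D.r_mem_S
  have htn : D.t ∈ normalizer (S : Set G) := hSn D.t_mem_S
  have hrsn : D.r * D.s ∈ normalizer (S : Set G) := hSn (mul_mem D.r_mem_S D.s_mem_S)
  have hU₂ : D.four₂.U ≤ normalizer (S : Set G) := D.four₂.U_le_iff.2 ⟨htn, hrsn⟩
  have hmv₂ : ∃ y ∈ S, D.r * D.s * y * (D.r * D.s)⁻¹ ≠ y := by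
    rcases h₂ with ⟨y, hy, hne⟩ | h
    · exact ⟨y, hRS hy, hne⟩
    · exact moved_of_inv D.four₂ hq h hd.le hd.pgroup hd.sylow hU₂
  exact ⟨S, D.local_both hm (fun V => hm.properSpec V) hmax hq hd.ne_bot
    ⟨hd.le, hd.pgroup, hd.sylow, D.four₁.U_le_iff.2 ⟨htn, hrn⟩, hmv⟩ ⟨hd.le, hd.pgroup, hd.sylow, hU₂, hmv₂⟩ hSn⟩

/-- A prime of inverted elements of both reflections has the local facts. -/
theorem local_of_inv (hm : Minimal G) (hmax : IsCoatom D.C) (habel : IsMulCommutative D.four₁.T) {q : ℕ}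
    (hq : q.Prime) (h₁ : Inv D.four₁ q) (h₂ : Inv D.four₂ q) :
    ∃ S : Subgroup G, LocalSpec D.four₁ q S ∧ LocalSpec D.four₂ q S := by
  obtain ⟨e, he, heq, hei⟩ := h₁
  refine local_of_moved D hm hmax hq (mem_R D habel (D.four₁.mem_T he hei) (k := 1) (by rw [heq, pow_one]))
    (fun h => hq.one_lt.ne ?_) (Or.inr h₂)
  rw [← heq, eq_one_of_fix_inv (Cfsg.Lib.GW.Frame.odd_orderOf D.four₁.odd_card_O he) h hei, orderOf_one]

end Cfsg.Lib.GWD.Kill
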