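import Cfsg.Agent.GWDihedral.Kill.Main
import Cfsg.Agent.Coprime.Fitting
import Cfsg.Agent.GWDihedral.CharSpec

/-!
GW dihedral, the end: what `s` inverts in `C_O(r)` generates an abelian group, so `[O, r s]` is abelian.
-/

set_option autoImplicit false
set_option linter.unusedSectionVars false
set_option linter.style.haveILetI false

namespace Cfsg.Lib.GWD.Kill

open Subgroup Cfsg.Lib.GenDihedral
open Cfsg.Lib.GW (Core qmap le_normalizer_core)

universe u

variable {G : Type u} [Group G] [Finite G] (D : Frame G)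

/-- The only element of the Sylow 2-subgroup fixed by it of order two is `t`. -/
theorem eq_t_of_central {v : G} (hv : v ∈ D.S) (hv2 : orderOf v = 2) (hc : ∀ x ∈ D.S, x * v = v * x) : v = D.t := by
  by_contra hne
  obtain ⟨τ, hτ, h⟩ := Mixed.reflection_cases D hv hv2 hne
  rw [hc τ hτ, mul_inv_cancel_right] at h
  have key : D.r * D.s = D.s * D.r → False := fun e => by
    have h' := D.rel
    rw [e, mul_inv_cancel_right] at h'
    have h2 : D.s ^ 2 = 1 := by rw [pow_two]; exact mul_eq_one_iff_eq_inv.2 h'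
    have := Nat.le_of_dvd two_pos (orderOf_dvd_of_pow_eq_one h2)
    rw [D.s_order] at this
    have h3 := D.three_le
    have := Nat.pow_le_pow_right two_pos (show 2 ≤ D.n - 1 by omega)
    omega
  rcases h with rfl | rfl
  · exact key (hc D.s D.s_mem_S).symm
  · refine key ?_
    have h1 := hc D.r D.r_mem_S
    rw [← mul_assoc, mul_self_of_two D.r_order, one_mul] at h1
    calc D.r * D.s = D.r * (D.r * D.s * D.r) := by rw [← h1]
      _ = D.r * D.r * (D.s * D.r) := by group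
      _ = D.s * D.r := by rw [mul_self_of_two D.r_order, one_mul]

variable (habel : IsMulCommutative D.four₁.T)
include habel

/-- Above the Sylow subgroup, a rotation of `⟨t, r s⟩` without one of `⟨t, r⟩` leaves nothing of `C_O(r)` inverted by
`s`. -/
theorem rot_absurd (hm : Minimal G) (hmax : IsCoatom D.C) {H : Subgroup G} (hH : H ≠ ⊤) (hS : D.S ≤ H)
    (hR : Rot D.four₂ H) (hnR : ¬ Rot D.four₁ H) {x : G} (hx : x ∈ D.four₁.W) (hxH : x ∈ H)
    (hxs : D.s * x * D.s⁻¹ = x⁻¹) : x = 1 := by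
  have hxO := D.four₁.W_le hx
  have hxo : Odd (orderOf x) := Cfsg.Lib.GW.Frame.odd_orderOf D.odd_card_O hxO
  have hrx : D.r * x * D.r⁻¹ = x := mul_inv_eq_iff_eq_mul.2 (D.four₁.mem_W.1 hx).2.symm
  have hrsx : D.r * D.s * x * (D.r * D.s)⁻¹ = x⁻¹ := by
    rw [← Cfsg.Lib.GenDihedral.conj_conj, hxs, ← _root_.conj_inv, hrx]
  by_cases hxc : x ∈ Core H
  · -- `r * s` is conjugate in `H` to `t`, which centralises the core
    obtain ⟨g, hg, -, hgt, -, -⟩ := exists_rot D.four₂ hR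
    have h1 : g⁻¹ * x * g ∈ Core H := (mem_normalizer_iff''.1 (le_normalizer_core H hg) x).1 hxc
    have h2 : g⁻¹ * x * g * D.t = D.t * (g⁻¹ * x * g) := D.mem_C.1 (core_le_C D hm hmax habel hS h1)
    refine eq_one_of_fix_inv hxo ?_ hrsx
    rw [← show g * D.t * g⁻¹ = D.r * D.s from hgt]
    calc g * D.t * g⁻¹ * x * (g * D.t * g⁻¹)⁻¹ = g * (D.t * (g⁻¹ * x * g) * D.t⁻¹) * g⁻¹ := by group
      _ = x := by rw [← h2]; group
  have hU₁ : D.four₁.U ≤ H := D.four₁.U_le_iff.2 ⟨hS D.t_mem_S, hS D.r_mem_S⟩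
  have hU₂ : D.four₂.U ≤ H := D.four₂.U_le_iff.2 ⟨hS D.t_mem_S, hS (mul_mem D.r_mem_S D.s_mem_S)⟩
  exfalso
  rcases hm.cases_l2 D.four₂ hU₂ hH with h2 | ⟨L, hTop, -, hK⟩
  · exact hxc (mem_core_of_nil h2 hxH hxo)
  obtain ⟨htL, huL⟩ := (rot_iff D.four₂ hU₂ hTop).1 hR
  have hrL : D.four₁.ub hU₁ ∉ L := fun h => hnR ((rot_iff D.four₁ hU₁ hTop).2 ⟨htL, h⟩)
  have K : L2Like L := hK.resolve_left fun e => hrL (e ▸ mem_top _)
  have F4 := D.four₂.four_q hU₂
  have F4' := D.four₁.four_q hU₁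
  have ho : Odd (orderOf (qmap H ⟨x, hxH⟩)) :=
    hxo.of_dvd_nat ((orderOf_map_dvd _ _).trans (Subgroup.orderOf_mk x hxH).dvd)
  have hi : D.four₂.ub hU₂ * qmap H ⟨x, hxH⟩ * (D.four₂.ub hU₂)⁻¹ = (qmap H ⟨x, hxH⟩)⁻¹ := by
    rw [Cfsg.Lib.GW.Frame.ub, ← map_inv, ← map_inv, ← map_mul, ← map_mul]
    exact congrArg _ (Subtype.ext hrsx)
  have hxL := hTop.mem_of_inverted F4.t2 ho hi
  have hx1 : qmap H ⟨x, hxH⟩ ≠ 1 := fun h => hxc (Cfsg.Lib.GW.qmap_eq_one.1 h)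
  have hxt : qmap H ⟨x, hxH⟩ * D.four₂.tb hU₂ = D.four₂.tb hU₂ * qmap H ⟨x, hxH⟩ := by
    rw [Cfsg.Lib.GW.Frame.tb, ← map_mul, ← map_mul]
    exact congrArg _ (Subtype.ext (D.mem_C.1 (D.O_le hxO)))
  have hxr : qmap H ⟨x, hxH⟩ * D.four₁.ub hU₁ = D.four₁.ub hU₁ * qmap H ⟨x, hxH⟩ := by
    rw [Cfsg.Lib.GW.Frame.ub, ← map_mul, ← map_mul]
    exact congrArg _ (Subtype.ext (D.four₁.mem_W.1 hx).2)
  exact hrL (K.uniq _ _ _ F4.z2 F4'.t2 hxL ho hx1 hxt hxr ▸ htL)

/-- Where `[O, r]` has no element of order `p` inverted by `s`, the centraliser of a fixed element of order a power of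
`p` lying in a normal subgroup of `C_O(r s)` rotates `⟨t, r s⟩`. -/
theorem rot_cent (hm : Minimal G) (hsq : Sq D) {p : ℕ} (hp : p.Prime)
    (hno : ∀ b ∈ D.four₁.T, D.s * b * D.s⁻¹ = b⁻¹ → orderOf b ≠ p) {Z : Subgroup G} (hZW : Z ≤ D.four₂.W)
    (hZn : D.four₂.W ≤ normalizer (Z : Set G)) (hZp : IsPGroup p Z) {z : G} (hz : z ∈ Z) :
    Rot D.four₂ (centralizer ({z} : Set G)) := by
  haveI : Fact p.Prime := ⟨hp⟩
  haveI : Fact (Nat.Prime 2) := ⟨Nat.prime_two⟩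
  set W := D.four₂.W with hW
  have hsW : D.flip.s ∈ normalizer (D.flip.four₁.W : Set G) := s_norm_W D.flip (sq_flip D hsq)
  have hrsW : D.r * D.s ∈ normalizer (W : Set G) := centralizer_le_normalizer _ (mem_centralizer_iff.2 fun x hx =>
    (D.four₂.mem_W.1 hx).2)
  have hrW : D.r ∈ normalizer (W : Set G) := by
    have h := mul_mem hrsW (inv_mem (show D.s ∈ normalizer (W : Set G) from hsW))
    rwa [mul_inv_cancel_right] at h
  have hSW : D.S ≤ normalizer (W : Set G) :=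
    (closure_le _).2 (Set.insert_subset (show D.s ∈ normalizer (W : Set G) from hsW) (Set.singleton_subset_iff.2 hrW))
  have hcop : (Nat.card D.S).Coprime (Nat.card W) := by
    rw [D.card_S]
    exact Nat.Coprime.pow_left _ (Nat.coprime_two_left.2 (D.odd_card_O.of_dvd_nat (card_dvd_of_le D.four₂.W_le)))
  obtain ⟨P, hP⟩ := Cfsg.Lib.Coprime.exists_invariant_sylow hSW hcop
    (Or.inl (by haveI := D.isPGroup_S.isNilpotent; infer_instance)) p
  set Q := (P : Subgroup W).map W.subtype with hQ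
  have hQW : Q ≤ W := map_subtype_le _
  have hQp : IsPGroup p Q := P.2.map _
  -- `r` centralises `Q`
  have hQr : ∀ y ∈ Q, D.r * y = y * D.r := by
    intro y hy
    obtain ⟨f, -, i, hi, hfr, hir, rfl⟩ := Cfsg.Lib.GW.Mixed.Invol.decomp (mul_self_of_two D.r_order)
      (D.odd_card_O.of_dvd_nat (card_dvd_of_le (hQW.trans D.four₂.W_le))) (hP D.r_mem_S) hy
    have hiO := D.four₂.W_le (hQW hi)
    have hiT := D.four₁.mem_T hiO hir
    have his : D.s * i * D.s⁻¹ = i⁻¹ := by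
      have h : D.r * D.s * i * (D.r * D.s)⁻¹ = i := mul_inv_eq_iff_eq_mul.2 (D.four₂.mem_W.1 (hQW hi)).2.symm
      rw [← Cfsg.Lib.GenDihedral.conj_conj, T_inverted D habel (s_mem_T D habel hsq hiT)] at h
      exact inv_eq_iff_eq_inv.1 h
    have hi1 : i = 1 := by
      by_contra hne
      obtain ⟨k, hk⟩ := IsPGroup.iff_orderOf.1 hQp ⟨i, hi⟩
      rw [Subgroup.orderOf_mk] at hk
      rcases k with _ | k
      · exact hne (orderOf_eq_one_iff.1 (hk.trans (pow_zero p)))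
      refine hno (i ^ p ^ k) (pow_mem hiT _) (by rw [← conj_pow, his, inv_pow]) ?_
      rw [orderOf_pow_of_dvd (pow_ne_zero _ hp.ne_zero) (hk ▸ pow_dvd_pow p (Nat.le_succ k)), hk, pow_succ,
        Nat.mul_div_cancel_left _ (pow_pos hp.pos k)]
    rw [hi1, mul_one]
    exact hfr
  set K := centralizer (Q : Set G) with hK
  have hQt : ∀ y ∈ Q, D.t * y = y * D.t := fun y hy => (D.mem_C.1 (D.O_le (D.four₂.W_le (hQW hy)))).symm
  have hQrs : ∀ y ∈ Q, D.r * D.s * y = y * (D.r * D.s) := fun y hy => (D.four₂.mem_W.1 (hQW hy)).2.symm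
  have hSK : D.S ≤ K := by
    refine (closure_le _).2 (Set.insert_subset ?_ (Set.singleton_subset_iff.2 (mem_centralizer_iff.2 fun y hy => (hQr y hy).symm)))
    refine mem_centralizer_iff.2 fun y hy => ?_
    have h := ((show Commute y D.r from (hQr y hy).symm).inv_right).mul_right (show Commute y (D.r * D.s) from (hQrs y hy).symm)
    rwa [inv_mul_cancel_left] at h
  -- Frattini in `C_O(r s)`
  obtain ⟨g, hgn, hgt, hgu⟩ : ∃ g : G, g ∈ normalizer (Q : Set G) ∧ g * D.t * g⁻¹ = D.r * D.s ∧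
      g * (D.r * D.s) * g⁻¹ = D.t * (D.r * D.s) := by
    have hσ := σ_mem_normalizer_W D.four₂ hm
    obtain ⟨P', hP'⟩ := ((hQp.map (MulAut.conj D.σ₂).toMonoidHom).comap_subtype (K := W)).exists_le_sylow
    obtain ⟨w, hw⟩ := MulAction.exists_smul_eq W P' P
    have hwc := D.four₂.mem_centralizer_U.1 (D.four₂.W_le_centralizer_U w.2)
    refine ⟨(w : G) * D.σ₂, Cfsg.Lib.GW.mem_normalizer_finite fun y hy => ?_, ?_, ?_⟩
    · have hyW : D.σ₂ * y * D.σ₂⁻¹ ∈ W := (mem_normalizer_iff.1 hσ y).1 (hQW hy)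
      have h1 : (⟨_, hyW⟩ : W) ∈ (P' : Subgroup W) := hP' (mem_subgroupOf.2 ⟨y, hy, rfl⟩)
      rw [← Cfsg.Lib.GenDihedral.conj_conj, hQ]
      exact ⟨w * ⟨_, hyW⟩ * w⁻¹, by rw [← hw]; exact ⟨_, h1, rfl⟩, rfl⟩
    · rw [← Cfsg.Lib.GenDihedral.conj_conj, show D.σ₂ * D.t * D.σ₂⁻¹ = D.r * D.s from D.σ₂_t]
      exact mul_inv_eq_iff_eq_mul.2 hwc.2
    · rw [← Cfsg.Lib.GenDihedral.conj_conj,
        show D.σ₂ * (D.r * D.s) * D.σ₂⁻¹ = D.t * (D.r * D.s) from D.σ₂_r, ← _root_.conj_mul,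
        mul_inv_eq_iff_eq_mul.2 hwc.1, mul_inv_eq_iff_eq_mul.2 hwc.2]
  -- and in `K`
  have hgS : D.S.map (MulAut.conj g).toMonoidHom ≤ K := by
    rintro _ ⟨x, hx, rfl⟩
    refine mem_centralizer_iff.2 fun y hy => ?_
    have h := mem_centralizer_iff.1 (hSK hx) _ ((mem_normalizer_iff''.1 hgn y).1 hy)
    show y * (g * x * g⁻¹) = g * x * g⁻¹ * y
    calc y * (g * x * g⁻¹) = g * (g⁻¹ * y * g * x) * g⁻¹ := by group
      _ = g * (x * (g⁻¹ * y * g)) * g⁻¹ := by rw [h]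
      _ = _ := by group
  set T₁ : Sylow 2 K := D.sylow.subtype (D.coe_sylow.le.trans hSK)
  obtain ⟨T₂, hT₂⟩ := ((D.isPGroup_S.map (MulAut.conj g).toMonoidHom).comap_subtype (K := K)).exists_le_sylow
  obtain ⟨c, hc⟩ := MulAction.exists_smul_eq K T₂ T₁
  have hcS : ∀ x ∈ D.S, (c : G) * (g * x * g⁻¹) * (c : G)⁻¹ ∈ D.S := fun x hx => by
    have h1 : (⟨g * x * g⁻¹, hgS ⟨x, hx, rfl⟩⟩ : K) ∈ (T₂ : Subgroup K) := hT₂ (mem_subgroupOf.2 ⟨x, hx, rfl⟩)
    have h2 : c * (⟨g * x * g⁻¹, hgS ⟨x, hx, rfl⟩⟩ : K) * c⁻¹ ∈ (T₁ : Subgroup K) := by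
      rw [← hc]; exact ⟨_, h1, rfl⟩
    rw [← D.coe_sylow]
    rw [Sylow.coe_subtype] at h2; exact mem_subgroupOf.1 h2
  have hct : (c : G) * (g * D.t * g⁻¹) * (c : G)⁻¹ = D.t := by
    refine eq_t_of_central D (hcS _ D.t_mem_S) ?_ fun x hx => ?_
    · rw [← MulAut.conj_apply, MulEquiv.orderOf_eq, ← MulAut.conj_apply, MulEquiv.orderOf_eq, D.t_order]
    · -- every element of `S` is a conjugate of one of `S`
      have hmap : D.S.map (MulAut.conj ((c : G) * g)).toMonoidHom = D.S := by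
        refine Subgroup.eq_of_le_of_card_ge ?_ (card_map_of_injective (MulAut.conj _).injective).ge
        rintro _ ⟨x, hx, rfl⟩
        show (c : G) * g * x * ((c : G) * g)⁻¹ ∈ D.S
        rw [← Cfsg.Lib.GenDihedral.conj_conj]
        exact hcS x hx
      obtain ⟨y, hy, rfl⟩ := hmap.ge hx
      show (c : G) * g * y * ((c : G) * g)⁻¹ * ((c : G) * (g * D.t * g⁻¹) * (c : G)⁻¹) =
        (c : G) * (g * D.t * g⁻¹) * (c : G)⁻¹ * ((c : G) * g * y * ((c : G) * g)⁻¹)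
      calc _ = (c : G) * g * (y * D.t) * g⁻¹ * (c : G)⁻¹ := by group
        _ = (c : G) * g * (D.t * y) * g⁻¹ * (c : G)⁻¹ := by rw [D.S_comm_t hy]
        _ = _ := by group
  rw [hgt] at hct
  -- the two conjugations
  have h1 : (c : G)⁻¹ * D.t * (c : G)⁻¹⁻¹ = D.r * D.s := by
    calc (c : G)⁻¹ * D.t * (c : G)⁻¹⁻¹ = (c : G)⁻¹ * ((c : G) * (D.r * D.s) * (c : G)⁻¹) * (c : G)⁻¹⁻¹ := by rw [hct]
      _ = _ := by group
  obtain ⟨e, he, her⟩ := class1_tr D.flip (class1_r D.flip)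
  have hUK : D.four₂.U ≤ K := D.four₂.U_le_iff.2 ⟨hSK D.t_mem_S, hSK (mul_mem D.r_mem_S D.s_mem_S)⟩
  have hrot : Rot D.four₂ K := rot_of_conj D.four₂ hm hUK (inv_mem c.2) h1
    (mul_mem (hSK (flip_S D ▸ he)) (inv_mem c.2)) (by rw [← Cfsg.Lib.GenDihedral.conj_conj, h1]; exact her)
  refine hrot.mono fun x hx => mem_centralizer_singleton_iff.2 (mem_centralizer_iff.1 hx z ?_).symm
  have h2 : (Z.subgroupOf W) ≤ (P : Subgroup W) := by
    haveI : (Z.subgroupOf W).Normal := normal_subgroupOf_of_le_normalizer hZn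
    exact (Cfsg.Lib.Components.le_pCore (N := Z.subgroupOf W) hZp.comap_subtype).trans (Cfsg.Lib.Coprime.pCore_le_sylow p P)
  exact ⟨⟨z, hZW hz⟩, h2 (mem_subgroupOf.2 hz), rfl⟩

/-- A prime part of `L` is fixed or inverted by `s`. -/
theorem fixed_or_inverted (hm : Minimal G) (hmax : IsCoatom D.C) (hsq : Sq D) {p : ℕ} (hp : p.Prime)
    {R : Subgroup G} (hRL : R ≤ Lmin D) (hRn : D.C ≤ normalizer (R : Set G)) (hRp : IsPGroup p R) :
    (∀ f ∈ R, D.s * f * D.s⁻¹ = f) ∨ ∀ f ∈ R, D.s * f * D.s⁻¹ = f⁻¹ := by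
  haveI : Fact p.Prime := ⟨hp⟩
  have hRW : R ≤ D.four₁.W := hRL.trans (Lmin_le D habel)
  have hRO : R ≤ D.O := hRW.trans D.four₁.W_le
  have hrs : ∀ x ∈ R, D.r * D.s * x * (D.r * D.s)⁻¹ = D.s * x * D.s⁻¹ := fun x hx => by
    rw [← Cfsg.Lib.GenDihedral.conj_conj]
    exact mul_inv_eq_iff_eq_mul.2 (D.four₁.mem_W.1 (s_conj_W D hsq (hRW hx))).2.symm
  have hodd : ∀ X : Subgroup G, X ≤ R → Odd (Nat.card X) := fun X hX =>
    D.odd_card_O.of_dvd_nat (card_dvd_of_le (hX.trans hRO))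
  have hSC : D.r * D.s ∈ D.C := D.S_le_C (mul_mem D.r_mem_S D.s_mem_S)
  by_contra hno
  push Not at hno
  obtain ⟨⟨f₀, hf₀, hf₀s⟩, f₁, hf₁, hf₁s⟩ := hno
  have hsplit : ∀ X : Subgroup G, X ≤ R → D.r * D.s ∈ normalizer (X : Set G) → ∀ x ∈ X,
      ∃ a ∈ X, ∃ b ∈ X, D.s * a * D.s⁻¹ = a ∧ D.s * b * D.s⁻¹ = b⁻¹ ∧ x = a * b := fun X hX hn x hx => by
    obtain ⟨a, ha, b, hb, ha', hb', e⟩ :=
      Cfsg.Lib.GW.Mixed.Invol.decomp (mul_self_of_two D.rs_order) (hodd X hX) hn hx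
    exact ⟨a, ha, b, hb, (hrs a (hX ha)).symm.trans (mul_inv_eq_iff_eq_mul.2 ha'),
      (hrs b (hX hb)).symm.trans hb', e⟩
  -- a moved element and a fixed one
  obtain ⟨x₀, hx₀, hx₀s, hx₀1⟩ : ∃ x ∈ R, D.s * x * D.s⁻¹ = x⁻¹ ∧ x ≠ 1 := by
    obtain ⟨a, -, b, hb, ha, hb', e⟩ := hsplit R le_rfl (hRn hSC) f₀ hf₀
    refine ⟨b, hb, hb', fun h => hf₀s ?_⟩
    rw [e, h, mul_one, ha]
  obtain ⟨z₀, hz₀, hz₀s, hz₀1⟩ : ∃ z ∈ R, D.s * z * D.s⁻¹ = z ∧ z ≠ 1 := by
    obtain ⟨a, ha, b, -, ha', hb', e⟩ := hsplit R le_rfl (hRn hSC) f₁ hf₁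
    refine ⟨a, ha, ha', fun h => hf₁s ?_⟩
    rw [e, h, one_mul, hb']
  -- a commuting pair
  obtain ⟨z, hz, hzs, hz1, x, hx, hxs, hx1, hc⟩ : ∃ z ∈ R, D.s * z * D.s⁻¹ = z ∧ z ≠ 1 ∧
      ∃ x ∈ R, D.s * x * D.s⁻¹ = x⁻¹ ∧ x ≠ 1 ∧ x * z = z * x := by
    haveI : Nontrivial R := ⟨⟨⟨x₀, hx₀⟩, 1, fun e => hx₀1 (congrArg Subtype.val e)⟩⟩
    haveI := hRp.center_nontrivial
    obtain ⟨c, hc⟩ := exists_ne (1 : center R)
    set X := (center R).map R.subtype with hX
    have hXR : X ≤ R := map_subtype_le _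
    have hXn : D.r * D.s ∈ normalizer (X : Set G) :=
      Cfsg.Lib.OddP.le_normalizer_map_of_char (center R) (hRn hSC)
    have hcen : ∀ a ∈ X, ∀ y ∈ R, y * a = a * y := by
      rintro _ ⟨a, ha, rfl⟩ y hy
      exact congrArg Subtype.val (mem_center_iff.1 ha ⟨y, hy⟩)
    obtain ⟨a, ha, b, hb, has, hbs, e⟩ := hsplit X hXR hXn _ ⟨c, c.2, rfl⟩
    by_cases hb1 : b = 1
    · refine ⟨a, hXR ha, has, fun h => hc (Subtype.ext (Subtype.ext ?_)), x₀, hx₀, hx₀s, hx₀1, hcen a ha x₀ hx₀⟩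
      rw [h, hb1, mul_one] at e
      exact e
    · exact ⟨z₀, hz₀, hz₀s, hz₀1, b, hXR hb, hbs, hb1, (hcen b hb z₀ hz₀).symm⟩
  set H := centralizer ({z} : Set G) with hH
  have hzW := hRW hz
  have hrz : D.r * z = z * D.r := (D.four₁.mem_W.1 hzW).2.symm
  have hsz : D.s * z = z * D.s := mul_inv_eq_iff_eq_mul.1 hzs
  have hSH : D.S ≤ H := (closure_le _).2 (Set.insert_subset (mem_centralizer_singleton_iff.2 hsz)
    (Set.singleton_subset_iff.2 (mem_centralizer_singleton_iff.2 hrz)))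
  have hle : H ≤ normalizer ((zpowers z : Subgroup G) : Set G) := by
    rw [zpowers_eq_closure]
    exact (centralizer_closure ({z} : Set G)).ge.trans (centralizer_le_normalizer _)
  have hnR : ¬ Rot D.four₁ H := fun h => not_rot D hm hmax (s_norm_W D hsq) hzW hz1
    (by rw [hzs]; exact mem_zpowers z) (fun i hi hir => (mem_centralizer_iff.1
      (Lmin_central D habel hm hmax hsq (hRL hz)) i (D.four₁.mem_T hi hir)).symm) (h.mono hle)
  have hR : Rot D.four₂ H := by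
    by_cases hb : ∃ b ∈ D.four₁.T, D.s * b * D.s⁻¹ = b⁻¹ ∧ orderOf b = p
    · obtain ⟨b, hb, -, hbp⟩ := hb
      have hbr : D.r * b * D.r⁻¹ ≠ b := fun e => hp.one_lt.ne (by
        rw [← hbp, eq_one_of_fix_inv (odd_of_mem_T D hb) e (T_inverted D habel hb), orderOf_one])
      have hxR : x ∈ D.four₁.R p := by
        have hn : D.four₁.O ≤ normalizer (R : Set G) := D.O_le.trans hRn
        haveI : (R.subgroupOf D.four₁.O).Normal := normal_subgroupOf_of_le_normalizer hn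
        exact ⟨⟨x, hRO hx⟩, Cfsg.Lib.Components.le_pCore (N := R.subgroupOf D.four₁.O) hRp.comap_subtype
          (mem_subgroupOf.2 hx), rfl⟩
      have hxrs : D.r * D.s * x * (D.r * D.s)⁻¹ ≠ x := fun e => hx1 (eq_one_of_fix_inv
        (Cfsg.Lib.GW.Frame.odd_orderOf D.odd_card_O (hRO hx)) e ((hrs x hx).trans hxs))
      obtain ⟨S', -, hl₂⟩ := local_of_moved D hm hmax hp (mem_R D habel hb (k := 1) (by rw [hbp, pow_one])) hbr
        (Or.inl ⟨x, hxR, hxrs⟩)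
      refine (hl₂.fusing_centralizer (zpowers z) (zpowers_le.2 (D.four₂.mem_W.2 ⟨hRO hz, ?_⟩))
        (hRp.to_le (zpowers_le.2 hz)) (fun e => hz1 (zpowers_eq_bot.1 e))).mono
        (centralizer_le (Set.singleton_subset_iff.2 (mem_zpowers z)))
      exact (mul_inv_eq_iff_eq_mul.1 ((hrs z hz).trans hzs)).symm
    · push Not at hb
      have hn : D.four₂.W ≤ normalizer (((R ⊓ D.four₂.W : Subgroup G)) : Set G) := fun w hw =>
        inf_normalizer_le_normalizer_inf ⟨hRn (D.O_le (D.four₂.W_le hw)), le_normalizer hw⟩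
      exact rot_cent D habel hm hsq hp hb inf_le_right hn (hRp.to_le inf_le_left)
        ⟨hz, D.four₂.mem_W.2 ⟨hRO hz, (mul_inv_eq_iff_eq_mul.1 ((hrs z hz).trans hzs)).symm⟩⟩
  exact hx1 (rot_absurd D habel hm hmax (Mixed.centralizer_ne_top hm hz1) hSH hR hnR (hRW hx)
    (mem_centralizer_singleton_iff.2 hc) hxs)

/-- `L` is abelian. -/
theorem Lmin_comm (hm : Minimal G) (hmax : IsCoatom D.C) (hsq : Sq D) :
    ∀ x ∈ Lmin D, ∀ y ∈ Lmin D, x * y = y * x := by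
  set L := Lmin D with hL
  haveI : Group.IsSolvable L := Cfsg.Agent.PF.isSolvable_of_odd _
    (D.odd_card_O.of_dvd_nat (card_dvd_of_le ((Lmin_le D habel).trans D.four₁.W_le)))
  have hWn : D.four₁.W ≤ normalizer (L : Set G) :=
    D.four₁.W_le.trans (D.O_le.trans (Lmin_normal D habel hm hmax hsq))
  have hcent : ∀ p : {p : ℕ // p.Prime}, ∀ f ∈ Cfsg.pCore p.1 L, ∀ l : L, l * f = f * l := by
    intro p
    haveI : Fact p.1.Prime := ⟨p.2⟩
    set R := (Cfsg.pCore p.1 L).map L.subtype with hR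
    have hRn : normalizer (L : Set G) ≤ normalizer (R : Set G) := Cfsg.Lib.OddP.le_normalizer_map_of_char _
    have hall := fixed_or_inverted D habel hm hmax hsq p.2 (map_subtype_le _)
      ((Lmin_normal D habel hm hmax hsq).trans hRn) ((Cfsg.Lib.Components.isPGroup_pCore p.1).map _)
    have hgen : L ≤ centralizer (R : Set G) := by
      refine (closure_le _).2 ?_
      rintro _ ⟨w, hw, a, ha, has, rfl⟩
      have key : ∀ f ∈ R, a * f = f * a := by
        intro f hf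
        have hf' : a * f * a⁻¹ ∈ R := (mem_normalizer_iff.1 (hRn (hWn ha)) f).1 hf
        have e : D.s * (a * f * a⁻¹) * D.s⁻¹ = a⁻¹ * (D.s * f * D.s⁻¹) * a := by
          rw [← _root_.conj_mul, ← _root_.conj_mul, ← _root_.conj_inv, has, inv_inv]
        have h2 : a * a * f = f * (a * a) := by
          rcases hall with h | h
          · rw [h _ hf', h _ hf] at e
            calc a * a * f = a * (a * f * a⁻¹) * a := by group
              _ = a * (a⁻¹ * f * a) * a := by rw [e]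
              _ = _ := by group
          · rw [h _ hf', h _ hf] at e
            have e' : a * f * a⁻¹ = a⁻¹ * f * a := by
              rw [← inv_inj, e]; group
            calc a * a * f = a * (a * f * a⁻¹) * a := by group
              _ = a * (a⁻¹ * f * a) * a := by rw [e']
              _ = _ := by group
        exact (commute_of_sq (Cfsg.Lib.GW.Frame.odd_orderOf D.odd_card_O (D.four₁.W_le ha)) h2).eq
      refine mem_centralizer_iff.2 fun f hf => ?_
      have h := key _ ((mem_normalizer_iff''.1 (hRn (hWn hw)) f).1 hf)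
      calc f * (w * a * w⁻¹) = w * (w⁻¹ * f * w * a) * w⁻¹ := by group
        _ = w * (a * (w⁻¹ * f * w)) * w⁻¹ := by rw [h]
        _ = _ := by group
    exact fun f hf l => Subtype.ext (mem_centralizer_iff.1 (hgen l.2) f ⟨f, hf, rfl⟩).symm
  have hF : Cfsg.fittingSubgroup L ≤ center L := by
    rw [Cfsg.Lib.Components.fitting_eq_iSup_pCore]
    exact iSup_le fun p f hf => mem_center_iff.2 fun l => hcent p f hf l
  intro x hx y hy
  have hx' : (⟨x, hx⟩ : L) ∈ Cfsg.fittingSubgroup L := Cfsg.Lib.Coprime.centralizer_fitting_le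
    (mem_centralizer_iff.2 fun f hf => (mem_center_iff.1 (hF hf) _).symm)
  exact (congrArg Subtype.val (mem_center_iff.1 (hF hx') ⟨y, hy⟩)).symm

/-- `[O, r * s]` is abelian. -/
theorem T₂_comm (hm : Minimal G) (hmax : IsCoatom D.C) (hsq : Sq D) : IsMulCommutative D.flip.four₁.T := by
  haveI := isMulCommutative_closure (k := {x | x ∈ D.four₂.O ∧ D.four₂.u * x * D.four₂.u⁻¹ = x⁻¹}) ?_
  · exact this
  rintro a ⟨ha, hai⟩ b ⟨hb, hbi⟩
  obtain ⟨w, hw, y, hy, hws, rfl⟩ := inverted_rs D habel hsq ha hai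
  obtain ⟨w', hw', y', hy', hws', rfl⟩ := inverted_rs D habel hsq hb hbi
  have hmem : ∀ v ∈ D.four₁.W, D.s * v * D.s⁻¹ = v⁻¹ → v ∈ Lmin D := fun v hv hvs =>
    subset_closure ⟨1, one_mem _, v, hv, hvs, by group⟩
  have hTL : ∀ v ∈ Lmin D, ∀ i ∈ D.four₁.T, Commute v i := fun v hv i hi =>
    (mem_centralizer_iff.1 (Lmin_central D habel hm hmax hsq hv) i hi).symm
  have hl := hmem w hw hws
  have hl' := hmem w' hw' hws'
  exact ((Commute.mul_right (Lmin_comm D habel hm hmax hsq w hl w' hl') (hTL w hl y' hy')).mul_left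
    (Commute.mul_right (hTL w' hl' y hy).symm (T_comm D habel hy hy'))).eq

omit habel

/-- `LinearKill` from the characters. -/
theorem linearKill_of_spec (hm : Minimal G) (hc : D.LinearSpec) : D.LinearKill := by
  intro _ hmax habel
  by_contra hW
  have hsq : Sq D := sq_central D hm hmax habel
  obtain ⟨θ, hθ, -, hθs, hθr⟩ := exists_linear D habel hm hmax hsq hW
  refine hθ (MonoidHom.ext fun a => hc hsq habel ?_ θ hθs hθr ?_ a)
  · intro e
    obtain ⟨w, hw, x, hx, hne⟩ := moves D habel hm hmax hsq hW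
    have h := commutatorElement_eq_one_iff_mul_comm.1 (mem_bot.1 (e ▸ commutator_mem_commutator hx hw))
    exact hne h.symm
  · intro a b haT haW hab
    have h1 : (a : G) = 1 := inter_eq_one D.flip (T₂_comm D habel hm hmax hsq) haT haW
    have hb : b = 1 := Subtype.ext (by rw [← hab, h1]; group; rfl)
    rw [hb, map_one]

end Cfsg.Lib.GWD.Kill
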