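import Cfsg.Agent.GWDihedral.Kill.Basic

/-!
GW dihedral, the end: odd cores above the Sylow subgroup lie in `C`; centralisers of elements of `C_O(r)` centralising
`[O, r]` rotate nothing.
-/

set_option autoImplicit false
set_option linter.unusedSectionVars false
set_option linter.style.haveILetI false

namespace Cfsg.Lib.GWD.Kill

open Subgroup Cfsg.Lib.GenDihedral
open Cfsg.Lib.GW (Core qmap qmap_eq qmap_eq_one core_le le_normalizer_core)

universe u

variable {G : Type u} [Group G] [Finite G] (D : Frame G)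

theorem flip_S : D.flip.S = D.S := by
  refine le_antisymm ((closure_le _).2 ?_) ((closure_le _).2 ?_)
  · rintro x (rfl | rfl)
    exacts [D.s_mem_S, mul_mem D.r_mem_S D.s_mem_S]
  · rintro x (rfl | rfl)
    · exact D.flip.s_mem_S
    · have h := mul_mem D.flip.r_mem_S (inv_mem D.flip.s_mem_S)
      rwa [show D.flip.r * D.flip.s⁻¹ = D.r from mul_inv_cancel_right D.r D.s] at h

/-- An element of a subgroup of odd order normalised by `t`, centralised by `r` and outside `C`: `r` inverts an element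
of the same order in `O`. -/
theorem inv_of_moved (hm : Minimal G) {q : ℕ} (hq : q.Prime) {Q : Subgroup G} (hQ : IsPGroup q Q)
    (hQo : Odd (Nat.card Q)) (ht : D.t ∈ normalizer (Q : Set G)) {x : G} (hx : x ∈ Q)
    (hxr : x * D.r = D.r * x) (hxC : x ∉ D.C) : Inv D.four₁ q := by
  haveI : Fact q.Prime := ⟨hq⟩
  have hKo : Odd (Nat.card ↥(Q ⊓ centralizer ({D.r} : Set G))) := hQo.of_dvd_nat (card_dvd_of_le inf_le_left)
  have htN : D.t ∈ normalizer ((Q ⊓ centralizer ({D.r} : Set G) : Subgroup G) : Set G) :=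
    inf_normalizer_le_normalizer_inf ⟨ht, le_normalizer (mem_centralizer_singleton_iff.2 D.r_comm)⟩
  obtain ⟨f, -, i, hi, hft, hit, rfl⟩ := Cfsg.Lib.GW.Mixed.Invol.decomp D.four₁.t_sq hKo htN
    (show x ∈ Q ⊓ centralizer ({D.r} : Set G) from ⟨hx, mem_centralizer_singleton_iff.2 hxr⟩)
  have hi1 : i ≠ 1 := fun e => hxC (D.mem_C.2 (by rw [e, mul_one]; exact hft.symm))
  obtain ⟨k, hk⟩ := IsPGroup.iff_orderOf.1 hQ ⟨i, hi.1⟩
  rw [Subgroup.orderOf_mk] at hk
  have hqd : q ∣ orderOf i := by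
    rcases k with _ | k
    · exact absurd (orderOf_eq_one_iff.1 (hk.trans (pow_zero q))) hi1
    · exact hk ▸ dvd_pow_self q (by omega)
  have hv : orderOf (i ^ (orderOf i / q)) = q := orderOf_pow_orderOf_div (orderOf_pos i).ne' hqd
  have hvo : Odd (orderOf (i ^ (orderOf i / q))) :=
    (Cfsg.Lib.GW.Frame.odd_orderOf hQo (pow_mem hi.1 _))
  obtain ⟨g, -, hgO, hgi⟩ := exists_to_inverted D hm hvo (class1_r D)
    ((show Commute i D.r from mem_centralizer_singleton_iff.1 hi.2).pow_left _).eq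
    (by rw [← conj_pow, show D.t * i * D.t⁻¹ = i⁻¹ from hit, inv_pow])
  exact ⟨_, hgO, by rw [← MulAut.conj_apply, MulEquiv.orderOf_eq, hv], hgi⟩

/-- The components of a subgroup of odd order normalised by `S`. -/
theorem le_C_or_inv (hm : Minimal G) {q : ℕ} (hq : q.Prime) {Q : Subgroup G} (hQ : IsPGroup q Q)
    (hQo : Odd (Nat.card Q)) (hS : D.S ≤ normalizer (Q : Set G)) : Q ≤ D.C ∨ Inv D.four₁ q := by
  refine or_iff_not_imp_right.2 fun hno => ?_
  have hr : ∀ x ∈ Q, x * D.r = D.r * x → x ∈ D.C := fun x hx hxr => by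
    by_contra h
    exact hno (inv_of_moved D hm hq hQ hQo (hS D.t_mem_S) hx hxr h)
  obtain ⟨c, hc, hcr⟩ := class1_tr D (class1_r D)
  refine D.four₁.le_of_components hQo (D.four₁.U_le_iff.2 ⟨hS D.t_mem_S, hS D.r_mem_S⟩)
    (fun x hx => hx.2) (fun x hx => hr x hx.1 (mem_centralizer_singleton_iff.1 hx.2)) fun x hx => ?_
  have h1 : x * (D.t * D.r) = D.t * D.r * x := mem_centralizer_singleton_iff.1 hx.2
  rw [← hcr] at h1
  have h2 := hr (c⁻¹ * x * c) ((mem_normalizer_iff''.1 (hS hc) x).1 hx.1) (by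
    calc c⁻¹ * x * c * D.r = c⁻¹ * (x * (c * D.r * c⁻¹)) * c := by group
      _ = c⁻¹ * (c * D.r * c⁻¹ * x) * c := by rw [h1]
      _ = _ := by group)
  have h3 := mul_mem (mul_mem (D.S_le_C hc) h2) (inv_mem (D.S_le_C hc))
  rwa [show c * (c⁻¹ * x * c) * c⁻¹ = x by group] at h3

/-- CT: odd subgroups normalised by `S` lie in `C`. -/
theorem le_C_of_odd (hm : Minimal G) (hmax : IsCoatom D.C) (habel : IsMulCommutative D.four₁.T) {K : Subgroup G}
    (hKo : Odd (Nat.card K)) (hS : D.S ≤ normalizer (K : Set G)) : K ≤ D.C := by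
  haveI : Fact (Nat.Prime 2) := ⟨Nat.prime_two⟩
  have hcop : (Nat.card D.S).Coprime (Nat.card K) := by
    rw [D.card_S]; exact Nat.Coprime.pow_left _ (Nat.coprime_two_left.2 hKo)
  have key : ∀ q, q.Prime → q ^ (Nat.card K).factorization q ∣ Nat.card ↥(K ⊓ D.C) := by
    intro q hq
    haveI : Fact q.Prime := ⟨hq⟩
    obtain ⟨P, hP⟩ := Cfsg.Lib.Coprime.exists_invariant_sylow hS hcop
      (Or.inl (by haveI := D.isPGroup_S.isNilpotent; infer_instance)) q
    set Q := (P : Subgroup K).map K.subtype with hQ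
    have hQK : Q ≤ K := map_subtype_le _
    have hQp : IsPGroup q Q := P.2.map _
    have hQo : Odd (Nat.card Q) := hKo.of_dvd_nat (card_dvd_of_le hQK)
    have hQC : Q ≤ D.C := by
      rcases le_C_or_inv D hm hq hQp hQo hP with h | h₁
      · exact h
      rcases le_C_or_inv D.flip hm hq hQp hQo (by rw [flip_S]; exact hP) with h | h₂
      · exact h
      obtain ⟨S, hl₁, hl₂⟩ := local_of_inv D hm hmax habel hq h₁ h₂
      obtain ⟨a, ha, ha1, hQa⟩ := hl₁.cent_inv Q hQp (D.four₁.U_le_iff.2 ⟨hP D.t_mem_S, hP D.r_mem_S⟩)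
      obtain ⟨b, hb, hb1, hQb⟩ := hl₂.cent_inv Q hQp
        (D.four₂.U_le_iff.2 ⟨hP D.t_mem_S, hP (mul_mem D.r_mem_S D.s_mem_S)⟩)
      intro x hx
      have hxa : Commute x a := mem_centralizer_singleton_iff.1 (hQa hx)
      have hxb : Commute x b := mem_centralizer_singleton_iff.1 (hQb hx)
      refine D.mem_C.2 ?_
      have hrr : D.r * (D.r * D.s) = D.s := by rw [← mul_assoc, mul_self_of_two D.r_order, one_mul]
      have htt : D.t * D.t = 1 := mul_self_of_two D.t_order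
      have hts : Commute D.t D.s := (Commute.refl D.s).pow_left _
      rcases D.four₁.mem_U.1 ha with rfl | rfl | rfl | rfl
      · exact absurd rfl ha1
      · exact hxa.eq
      all_goals rcases D.four₂.mem_U.1 hb with rfl | rfl | rfl | rfl
      any_goals exact absurd rfl hb1
      any_goals exact hxb.eq
      all_goals
        obtain ⟨w, hw, hwt⟩ : ∃ w, Commute x w ∧ w ^ 2 ^ (D.n - 2) = D.t := by
          refine ⟨_, hxa.mul_right hxb, ?_⟩
          have e2 : (D.t * D.s) ^ 2 ^ (D.n - 2) = D.t := by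
            rw [hts.mul_pow, show (2 : ℕ) ^ (D.n - 2) = 2 * 2 ^ (D.n - 3) by
              rw [← pow_succ']; congr 1; have := D.three_le; omega]
            rw [pow_mul D.t, pow_two, htt, one_pow, one_mul, ← pow_succ', Frame.t]
            congr 2; have := D.three_le; omega
          have ht2 : D.r * (D.t * (D.r * D.s)) = D.t * D.s := by
            rw [← mul_assoc, ← D.r_comm, mul_assoc, hrr]
          first
            | (show (D.r * (D.r * D.s)) ^ _ = _; rw [hrr]; rfl)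
            | (show (D.r * (D.t * (D.r * D.s))) ^ _ = _; rw [ht2]; exact e2)
            | (show (D.t * D.r * (D.r * D.s)) ^ _ = _; rw [mul_assoc, hrr]; exact e2)
            | (show (D.t * D.r * (D.t * (D.r * D.s))) ^ _ = _; rw [mul_assoc, ht2, ← mul_assoc, htt, one_mul]; rfl)
        exact hwt ▸ (hw.pow_right _).eq
    have hfull : q ^ (Nat.card K).factorization q ∣ Nat.card Q := by
      rw [hQ, card_map_of_injective K.subtype_injective, P.card_eq_multiplicity]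
    exact hfull.trans (card_dvd_of_le (le_inf hQK hQC))
  have hd : Nat.card K ∣ Nat.card ↥(K ⊓ D.C) := by
    refine (Nat.factorization_le_iff_dvd Nat.card_pos.ne' Nat.card_pos.ne').1 fun q => ?_
    by_cases hq : q.Prime
    · exact (hq.pow_dvd_iff_le_factorization Nat.card_pos.ne').1 (key q hq)
    · rw [Nat.factorization_eq_zero_of_not_prime _ hq]; exact Nat.zero_le _
  exact (Subgroup.eq_of_le_of_card_ge inf_le_left (Nat.le_of_dvd Nat.card_pos hd)).ge.trans inf_le_right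

theorem core_le_C (hm : Minimal G) (hmax : IsCoatom D.C) (habel : IsMulCommutative D.four₁.T) {H : Subgroup G}
    (hS : D.S ≤ H) : Core H ≤ D.C :=
  le_C_of_odd D hm hmax habel (Cfsg.Lib.GW.Frame.odd_card_core H) (hS.trans (le_normalizer_core H))


/-- A 2-group modulo the odd core containing the Sylow subgroup lies in `C` when its core does. -/
theorem le_C_of_nil (hm : Minimal G) {H : Subgroup G} (hS : D.S ≤ H) (hcore : Core H ≤ D.C)
    (hnil : IsPGroup 2 (H ⧸ Cfsg.oddCore H)) : H ≤ D.C := by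
  haveI : Fact (Nat.Prime 2) := ⟨Nat.prime_two⟩
  intro x hx
  set T : Sylow 2 H := D.sylow.subtype (D.coe_sylow.le.trans hS)
  have htop := ((T.mapSurjective (QuotientGroup.mk'_surjective (Cfsg.oddCore H))).3
    (hnil.of_equiv Subgroup.topEquiv.symm) le_top)
  obtain ⟨y, hy, hye⟩ : qmap H ⟨x, hx⟩ ∈ (T : Subgroup H).map (qmap H) := htop.le (mem_top _)
  have hyS : (y : G) ∈ D.S := by
    rw [← D.coe_sylow]
    rw [Sylow.coe_subtype] at hy; exact mem_subgroupOf.1 hy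
  have h := mul_mem (D.S_le_C hyS) (hcore (qmap_eq.1 hye))
  rwa [← mul_assoc, mul_inv_cancel, one_mul] at h

/-- A top over the Sylow subgroup contains `t` and one of the two reflections. -/
theorem reflection_in_top (hm : Minimal G) {H : Subgroup G} (hS : D.S ≤ H) {L : Subgroup (H ⧸ Cfsg.oddCore H)}
    (hTop : TopData L) : qmap H ⟨D.t, hS D.t_mem_S⟩ ∈ L ∧ (qmap H ⟨D.r, hS D.r_mem_S⟩ ∈ L ∨
      qmap H ⟨D.r * D.s, hS (mul_mem D.r_mem_S D.s_mem_S)⟩ ∈ L) := by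
  haveI : Fact (Nat.Prime 2) := ⟨Nat.prime_two⟩
  haveI := hTop.normal
  obtain ⟨a', b', ha', hb', F4⟩ := hTop.four
  obtain ⟨a, b, ha, hb, ha2, hb2, hab⟩ := hm.exists_lift_four F4
  have hne : (a : G) ≠ b := fun e => F4.ne_zt (by rw [← ha, ← hb, Subtype.ext e])
  have hP : IsPGroup 2 (Vg (a : G) (b : G)) :=
    IsPGroup.of_card (n := 2) ((isFour_of_comm ha2 hb2 hab hne).card.trans rfl)
  have hPH : Vg (a : G) (b : G) ≤ H := (closure_le _).2 (Set.insert_subset a.2 (Set.singleton_subset_iff.2 b.2))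
  obtain ⟨R, hR⟩ := (hP.comap_subtype (K := H)).exists_le_sylow
  set T : Sylow 2 H := D.sylow.subtype (D.coe_sylow.le.trans hS)
  obtain ⟨g, hg⟩ := MulAction.exists_smul_eq H R T
  have hmap : ∀ x : H, (x : G) ∈ Vg (a : G) (b : G) → qmap H x ∈ L →
      (g : G) * x * (g : G)⁻¹ ∈ D.S ∧ qmap H (g * x * g⁻¹) ∈ L := by
    intro x hx hxL
    have h1 : g * x * g⁻¹ ∈ (T : Subgroup H) := by
      rw [← hg]; exact ⟨x, hR (mem_subgroupOf.2 hx), rfl⟩
    refine ⟨?_, ?_⟩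
    · rw [← D.coe_sylow]
      rw [Sylow.coe_subtype] at h1; exact mem_subgroupOf.1 h1
    · rw [map_mul, map_mul, map_inv]; exact Subgroup.Normal.conj_mem inferInstance _ hxL _
  -- one of the images is a reflection
  obtain ⟨w, hwS, hw2, hwt, hwL⟩ : ∃ w, ∃ h : w ∈ D.S, orderOf w = 2 ∧ w ≠ D.t ∧ qmap H ⟨w, hS h⟩ ∈ L := by
    have ho : ∀ x : H, orderOf (x : G) = 2 → orderOf ((g : G) * x * (g : G)⁻¹) = 2 := fun x hx =>
      (MulEquiv.orderOf_eq (MulAut.conj (g : G)) x).trans hx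
    obtain ⟨h1, h1L⟩ := hmap a (subset_closure (Or.inl rfl)) (by rw [ha]; exact ha')
    obtain ⟨h2, h2L⟩ := hmap b (subset_closure (Or.inr rfl)) (by rw [hb]; exact hb')
    by_cases e : (g : G) * a * (g : G)⁻¹ = D.t
    · exact ⟨_, h2, ho b hb2, fun e' => hne ((MulAut.conj (g : G)).injective (e.trans e'.symm)), h2L⟩
    · exact ⟨_, h1, ho a ha2, e, h1L⟩
  have hconj : ∀ c ∈ D.S, ∀ z (hz : z ∈ D.S), qmap H ⟨z, hS hz⟩ ∈ L →
      ∃ h : c * z * c⁻¹ ∈ D.S, qmap H ⟨c * z * c⁻¹, hS h⟩ ∈ L := fun c hc z hz hzL => by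
    refine ⟨mul_mem (mul_mem hc hz) (inv_mem hc), ?_⟩
    show qmap H (⟨c, hS hc⟩ * ⟨z, hS hz⟩ * (⟨c, hS hc⟩ : H)⁻¹) ∈ L
    rw [map_mul, map_mul, map_inv]; exact Subgroup.Normal.conj_mem inferInstance _ hzL _
  obtain ⟨τ, hτ, hτw⟩ := Mixed.reflection_cases D hwS hw2 hwt
  obtain ⟨_, hτL⟩ := hconj τ hτ w hwS hwL
  have ht : ∀ z, z * z = 1 → ∀ hz : z ∈ D.S, qmap H ⟨z, hS hz⟩ ∈ L → (∃ c ∈ D.S, c * z * c⁻¹ = D.t * z) →
      qmap H ⟨D.t, hS D.t_mem_S⟩ ∈ L := by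
    rintro z hzz hz hzL ⟨c, hc, e⟩
    obtain ⟨_, h⟩ := hconj c hc z hz hzL
    have h' := mul_mem h hzL
    rw [← map_mul] at h'
    convert h' using 2
    refine Subtype.ext ?_
    show D.t = c * z * c⁻¹ * z
    rw [e, mul_assoc, hzz, mul_one]
  rcases hτw with e | e
  · have hrL : qmap H ⟨D.r, hS D.r_mem_S⟩ ∈ L := by simpa only [e] using hτL
    exact ⟨ht D.r (mul_self_of_two D.r_order) D.r_mem_S hrL (class1_tr D (class1_r D)), Or.inl hrL⟩
  · have hrL : qmap H ⟨D.r * D.s, hS (mul_mem D.r_mem_S D.s_mem_S)⟩ ∈ L := by simpa only [e] using hτL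
    obtain ⟨c, hc, hcw⟩ := class1_tr D.flip (class1_r D.flip)
    exact ⟨ht (D.r * D.s) (mul_self_of_two D.rs_order) (mul_mem D.r_mem_S D.s_mem_S) hrL
      ⟨c, flip_S D ▸ hc, hcw⟩, Or.inr hrL⟩

/-- NR: an element of `C_O(r)` centralising what `r` inverts in `O`, with `⟨a⟩` normalised by `s`, has no rotation of
`⟨t, r⟩` in the normaliser of `⟨a⟩`. -/
theorem not_rot (hm : Minimal G) (hmax : IsCoatom D.C) (hsW : D.s ∈ normalizer (D.four₁.W : Set G)) {a : G}
    (ha : a ∈ D.four₁.W) (ha1 : a ≠ 1) (hs : D.s * a * D.s⁻¹ ∈ zpowers a)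
    (hcomm : ∀ i ∈ D.O, D.r * i * D.r⁻¹ = i⁻¹ → a * i = i * a) :
    ¬ Rot D.four₁ (normalizer ((zpowers a : Subgroup G) : Set G)) := by
  intro hrot
  set V := D.four₁
  set X := closure {x : G | ∃ w ∈ V.W, x = w * a * w⁻¹} with hX
  have haX : a ∈ X := subset_closure ⟨1, one_mem _, by group⟩
  have hXW : X ≤ V.W := (closure_le _).2 (by
    rintro x ⟨w, hw, rfl⟩; exact mul_mem (mul_mem hw ha) (inv_mem hw))
  have hWX : V.W ≤ normalizer (X : Set G) := fun w' hw' => by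
    refine Cfsg.Lib.GenDihedral.mem_normalizer_closure ?_
    rintro x ⟨w, hw, rfl⟩
    exact subset_closure ⟨w' * w, mul_mem hw' hw, by group⟩
  have hO : D.O ≤ normalizer (X : Set G) := fun o ho => by
    obtain ⟨w, hw, i, hi, hiu, rfl⟩ := exists_mul V ho
    refine mul_mem (hWX hw) (centralizer_le_normalizer _ ?_)
    rw [hX, centralizer_closure]
    refine mem_centralizer_iff.2 ?_
    rintro x ⟨w', hw', rfl⟩
    have hj : V.u * (w'⁻¹ * i * w'⁻¹⁻¹) * V.u⁻¹ = (w'⁻¹ * i * w'⁻¹⁻¹)⁻¹ := W_conj_inverted V (inv_mem hw') hiu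
    have h := hcomm _ (mul_mem (mul_mem (inv_mem (V.W_le hw')) hi) (inv_mem (inv_mem (V.W_le hw')))) hj
    rw [inv_inv] at h
    calc w' * a * w'⁻¹ * i = w' * (a * (w'⁻¹ * i * w')) * w'⁻¹ := by group
      _ = w' * (w'⁻¹ * i * w' * a) * w'⁻¹ := by rw [h]
      _ = _ := by group
  have hsX : D.s ∈ normalizer (X : Set G) := by
    refine Cfsg.Lib.GenDihedral.mem_normalizer_closure ?_
    rintro x ⟨w, hw, rfl⟩
    obtain ⟨n, hn⟩ := mem_zpowers_iff.1 hs
    have h : D.s * (w * a * w⁻¹) * D.s⁻¹ = (D.s * w * D.s⁻¹ * a * (D.s * w * D.s⁻¹)⁻¹) ^ n := by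
      rw [conj_zpow, hn]; group
    rw [h]
    exact X.zpow_mem (subset_closure ⟨D.s * w * D.s⁻¹, (mem_normalizer_iff.1 hsW w).1 hw, rfl⟩) n
  have hrX : D.r ∈ normalizer (X : Set G) := centralizer_le_normalizer _ (mem_centralizer_iff.2 fun x hx =>
    (V.mem_W.1 (hXW hx)).2)
  have hC := C_le_normalizer D hO hsX hrX
  -- the rotation
  obtain ⟨g, hg, -, hgt, hgu, hgv⟩ := exists_rot V hrot
  obtain ⟨k, hk⟩ := exists_zpow_conj hg
  set h := D.σ₁ * g⁻¹ with hh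
  have hht : h * D.t * h⁻¹ = D.t := by
    rw [hh, show D.σ₁ * g⁻¹ * D.t * (D.σ₁ * g⁻¹)⁻¹ = D.σ₁ * (g⁻¹ * D.t * g) * D.σ₁⁻¹ by group,
      show g⁻¹ * D.t * g = V.t * V.u by
        nth_rw 1 [show D.t = g * (V.t * V.u) * g⁻¹ from hgv.symm]; group]
    exact V.σ_v
  have hhr : h * D.r * h⁻¹ = D.r := by
    rw [hh, show D.σ₁ * g⁻¹ * D.r * (D.σ₁ * g⁻¹)⁻¹ = D.σ₁ * (g⁻¹ * D.r * g) * D.σ₁⁻¹ by group,
      show g⁻¹ * D.r * g = V.t by nth_rw 1 [show D.r = g * V.t * g⁻¹ from hgt.symm]; group]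
    exact V.σ_t
  obtain ⟨o, ho, τ, hτ, hoτ⟩ := D.C_structure h (D.mem_C.2 (mul_inv_eq_iff_eq_mul.1 hht))
  -- uniqueness of the decomposition
  have hrn : D.r ∈ normalizer (D.O : Set G) := D.C_le_normalizer_O (D.S_le_C D.r_mem_S)
  have hor : o⁻¹ * (D.r * o * D.r⁻¹) = τ * (D.r * τ * D.r⁻¹)⁻¹ := by
    have h1 : D.r * h * D.r⁻¹ = h := mul_inv_eq_iff_eq_mul.2 (mul_inv_eq_iff_eq_mul.1 hhr).symm
    rw [hoτ, ← _root_.conj_mul] at h1
    rw [inv_mul_eq_iff_eq_mul, ← mul_assoc, ← h1, mul_inv_cancel_right]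
  have h1 : o⁻¹ * (D.r * o * D.r⁻¹) = 1 := by
    have hmem : o⁻¹ * (D.r * o * D.r⁻¹) ∈ D.O ⊓ D.S :=
      ⟨D.O.mul_mem (D.O.inv_mem ho) ((mem_normalizer_iff.1 hrn o).1 ho),
        hor ▸ D.S.mul_mem hτ (D.S.inv_mem (D.S.mul_mem (D.S.mul_mem D.r_mem_S hτ) (D.S.inv_mem D.r_mem_S)))⟩
    rwa [D.O_inf_S, mem_bot] at hmem
  have hτr : D.r * τ * D.r⁻¹ = τ := by
    rw [h1] at hor; exact (mul_inv_eq_one.1 hor.symm).symm
  have hoW : o ∈ V.W := V.mem_W.2 ⟨ho, (mul_inv_eq_iff_eq_mul.1 (inv_mul_eq_one.1 h1).symm).symm⟩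
  have hτU : τ ∈ V.U := by
    have hrr := mul_self_of_two D.r_order
    have hri := inv_of_two D.r_order
    have key : ∀ z ∈ zpowers D.s, D.r * z * D.r⁻¹ = z → z ∈ V.U := fun z hz hzr => by
      obtain ⟨n, rfl⟩ := mem_zpowers_iff.1 hz
      have h : D.r * D.s ^ n * D.r⁻¹ = (D.s ^ n)⁻¹ := by rw [← conj_zpow, D.rel, inv_zpow]
      rw [hzr] at h
      have hsq : D.s ^ n * D.s ^ n = 1 := by nth_rw 1 [h]; exact inv_mul_cancel _
      rcases D.data.sq_zpowers hz hsq with e | e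
      · rw [e]; exact one_mem _
      · rw [e, D.t_eq]; exact V.t_mem_U
    rcases D.S_cases hτ with h' | h'
    · exact key τ h' hτr
    · have h'' := key (τ * D.r) h' (by rw [← _root_.conj_mul, hτr, mul_inv_cancel_right])
      have := mul_mem h'' V.u_mem_U
      rwa [show τ * D.r * V.u = τ from by show τ * D.r * D.r = τ; rw [mul_assoc, hrr, mul_one]] at this
  have hτa : τ * a * τ⁻¹ = a := mul_inv_eq_iff_eq_mul.2
    (mem_centralizer_iff.1 (V.W_le_centralizer_U ha) τ hτU)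
  have hσa : D.σ₁ * a * D.σ₁⁻¹ ∈ X := by
    have e : D.σ₁ * a * D.σ₁⁻¹ = (o * a * o⁻¹) ^ k := by
      rw [show D.σ₁ = h * g by rw [hh, inv_mul_cancel_right], show h * g * a * (h * g)⁻¹ = h * (g * a * g⁻¹) * h⁻¹ by group,
        hk, ← conj_zpow, hoτ, ← Cfsg.Lib.GenDihedral.conj_conj, hτa]
    rw [e]
    exact X.zpow_mem (subset_closure ⟨o, hoW, rfl⟩) k
  have hσ : D.σ₁ ∈ normalizer (X : Set G) := by
    refine Cfsg.Lib.GenDihedral.mem_normalizer_closure ?_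
    rintro x ⟨w, hw, rfl⟩
    have hw' : D.σ₁ * w * D.σ₁⁻¹ ∈ V.W := (mem_normalizer_iff.1 (σ_mem_normalizer_W V hm) w).1 hw
    rw [show D.σ₁ * (w * a * w⁻¹) * D.σ₁⁻¹ =
      D.σ₁ * w * D.σ₁⁻¹ * (D.σ₁ * a * D.σ₁⁻¹) * (D.σ₁ * w * D.σ₁⁻¹)⁻¹ by group]
    exact (mem_normalizer_iff.1 (hWX hw') _).1 hσa
  exact no_invariant D hm hmax (fun e => ha1 (mem_bot.1 (e ▸ haX))) (hXW.trans V.W_le) hC hσ

/-- `C(a) ≤ C` for an element of `O` inverted by `r`, with `⟨a⟩` normalised by `s`, unless a reflection in the top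
centralises it. -/
theorem cent_le_C (hm : Minimal G) (hmax : IsCoatom D.C)
    (hcore : ∀ H : Subgroup G, D.S ≤ H → Core H ≤ D.C) {a : G} (ha : a ∈ D.O) (ha1 : a ≠ 1)
    (hr : D.r * a * D.r⁻¹ = a⁻¹)
    (hrs : D.r * D.s * a * (D.r * D.s)⁻¹ = a⁻¹ ∨ ¬ Rot D.four₂ (normalizer ((zpowers a : Subgroup G) : Set G)))
    (hs : D.s ∈ normalizer ((zpowers a : Subgroup G) : Set G)) : centralizer ({a} : Set G) ≤ D.C := by
  set H := normalizer ((zpowers a : Subgroup G) : Set G) with hH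
  have hrH : D.r ∈ H := by
    rw [hH, zpowers_eq_closure]
    refine Cfsg.Lib.GenDihedral.mem_normalizer_closure fun x hx => ?_
    rw [Set.mem_singleton_iff.1 hx, hr]
    exact inv_mem (subset_closure rfl)
  have hSH : D.S ≤ H := (closure_le _).2 (Set.insert_subset hs (Set.singleton_subset_iff.2 hrH))
  have hao : Odd (orderOf a) := Cfsg.Lib.GW.Frame.odd_orderOf D.odd_card_O ha
  have hHtop : H ≠ ⊤ := fun e => by
    haveI := hm.simple
    rcases (normalizer_eq_top_iff.1 e).eq_bot_or_eq_top with h | h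
    · exact ha1 (zpowers_eq_bot.1 h)
    · exact hmax.1 (top_le_iff.1 (h ▸ (zpowers_le.2 (D.O_le ha))))
  have hle : centralizer ({a} : Set G) ≤ H := by
    rw [hH, zpowers_eq_closure]
    exact (centralizer_closure ({a} : Set G)).ge.trans (centralizer_le_normalizer _)
  have hU₂ : D.four₂.U ≤ H := D.four₂.U_le_iff.2 ⟨hSH D.t_mem_S, hSH (mul_mem D.r_mem_S D.s_mem_S)⟩
  have hU₁ : D.four₁.U ≤ H := D.four₁.U_le_iff.2 ⟨hSH D.t_mem_S, hrH⟩
  have hta : D.t * a = a * D.t := (D.mem_C.1 (D.O_le ha)).symm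
  refine hle.trans ?_
  rcases hm.cases_l2 D.four₁ hU₁ hHtop with h2 | ⟨L, hTop, -, -⟩
  · exact le_C_of_nil D hm hSH (hcore H hSH) h2
  exfalso
  obtain ⟨htL, hrL | hrsL⟩ := reflection_in_top D hm hSH hTop
  · exact not_mem_top D.four₁ hTop hU₁ htL hao ha1 le_rfl hta D.r_order hrH hr hrL
  · rcases hrs with h | h
    · exact not_mem_top D.four₁ hTop hU₁ htL hao ha1 le_rfl hta D.rs_order
        (hSH (mul_mem D.r_mem_S D.s_mem_S)) h hrsL
    · exact h ((rot_iff D.four₂ hU₂ hTop).2 ⟨htL, hrsL⟩)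

end Cfsg.Lib.GWD.Kill
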