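import Cfsg.Agent.GWDihedral.Kill.StepThree
import Mathlib.NumberTheory.MulChar.Duality

/-!
GW dihedral, the end: a non-trivial linear character of `O`, trivial on `[O, r]` and invariant under the reflections.
-/

set_option autoImplicit false
set_option linter.unusedSectionVars false
set_option linter.style.haveILetI false

namespace Cfsg.Lib.GWD.Kill

open Subgroup Cfsg.Lib.GenDihedral
open scoped commutatorElement
open Cfsg.Lib.GW (Core core_le le_normalizer_core)

universe u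

variable {G : Type u} [Group G] [Finite G]

variable (D : Frame G) (habel : IsMulCommutative D.four₁.T)
include habel

/-- `C_O(r)` does not centralise `[O, r]`. -/
theorem moves (hm : Minimal G) (hmax : IsCoatom D.C) (hsq : Sq D) (hW : D.four₁.W ≠ ⊥) :
    ∃ w ∈ D.four₁.W, ∃ x ∈ D.four₁.T, w * x ≠ x * w := by
  by_contra h
  push Not at h
  refine no_invariant D hm hmax hW D.four₁.W_le (C_le_normalizer D (fun o ho => ?_) (s_norm_W D hsq)
    (centralizer_le_normalizer _ (mem_centralizer_iff.2 fun x hx => (D.four₁.mem_W.1 hx).2)))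
    (σ_mem_normalizer_W D.four₁ hm)
  obtain ⟨w, hw, i, hi, hiu, rfl⟩ := exists_mul D.four₁ ho
  exact mul_mem (le_normalizer hw) (centralizer_le_normalizer _
    (mem_centralizer_iff.2 fun x hx => h x hx i (D.four₁.mem_T hi hiu)))

/-- `L`: the normal closure in `C_O(r)` of what `s` inverts. -/
def Lmin : Subgroup G :=
  closure {x | ∃ w ∈ D.four₁.W, ∃ a ∈ D.four₁.W, D.s * a * D.s⁻¹ = a⁻¹ ∧ x = w * a * w⁻¹}

theorem Lmin_le : Lmin D ≤ D.four₁.W := (closure_le _).2 (by
  rintro x ⟨w, hw, a, ha, -, rfl⟩; exact mul_mem (mul_mem hw ha) (inv_mem hw))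

theorem Lmin_central (hm : Minimal G) (hmax : IsCoatom D.C) (hsq : Sq D) :
    Lmin D ≤ centralizer (D.four₁.T : Set G) := (closure_le _).2 (by
  rintro x ⟨w, hw, a, ha, has, rfl⟩
  refine mem_centralizer_iff.2 fun y hy => ?_
  have hy' : w⁻¹ * y * w⁻¹⁻¹ ∈ D.four₁.T :=
    (mem_normalizer_iff.1 (O_le_normalizer_T D.four₁ (inv_mem (D.four₁.W_le hw))) y).1 hy
  rw [inv_inv] at hy'
  have h := minus_central D habel hm hmax hsq (D.four₁.W_le ha) has hy'
  calc y * (w * a * w⁻¹) = w * (w⁻¹ * y * w * a) * w⁻¹ := by group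
    _ = w * (a * (w⁻¹ * y * w)) * w⁻¹ := by rw [h]
    _ = _ := by group)

theorem Lmin_normal (hm : Minimal G) (hmax : IsCoatom D.C) (hsq : Sq D) :
    D.C ≤ normalizer (Lmin D : Set G) := by
  refine C_le_normalizer D (fun o ho => ?_) ?_ (centralizer_le_normalizer _ (mem_centralizer_iff.2 fun x hx =>
    (D.four₁.mem_W.1 (Lmin_le D habel hx)).2))
  · obtain ⟨w, hw, i, hi, hiu, rfl⟩ := exists_mul D.four₁ ho
    refine mul_mem ?_ (centralizer_le_normalizer _ (mem_centralizer_iff.2 fun x hx =>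
      (mem_centralizer_iff.1 (Lmin_central D habel hm hmax hsq hx) i (D.four₁.mem_T hi hiu)).symm))
    refine Cfsg.Lib.GenDihedral.mem_normalizer_closure ?_
    rintro x ⟨w', hw', a, ha, has, rfl⟩
    exact subset_closure ⟨w * w', mul_mem hw hw', a, ha, has, by group⟩
  · refine Cfsg.Lib.GenDihedral.mem_normalizer_closure ?_
    rintro x ⟨w, hw, a, ha, has, rfl⟩
    have h : D.s * (w * a * w⁻¹) * D.s⁻¹ = D.s * w * D.s⁻¹ * a⁻¹ * (D.s * w * D.s⁻¹)⁻¹ := by
      rw [← has]; group
    rw [h]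
    refine subset_closure ⟨D.s * w * D.s⁻¹, s_conj_W D hsq hw, a⁻¹, inv_mem ha, ?_, rfl⟩
    rw [← _root_.conj_inv, has]

theorem commutator_mem_Lmin (hsq : Sq D) {w : G} (hw : w ∈ D.four₁.W) :
    w⁻¹ * (D.s * w * D.s⁻¹) ∈ Lmin D := by
  refine subset_closure ⟨1, one_mem _, _, mul_mem (inv_mem hw) (s_conj_W D hsq hw), ?_, by group⟩
  rw [← _root_.conj_mul, ← _root_.conj_inv, s_s_conj D hsq (D.four₁.W_le hw)]
  group

/-- The linear character. -/
theorem exists_linear (hm : Minimal G) (hmax : IsCoatom D.C) (hsq : Sq D) (hW : D.four₁.W ≠ ⊥) :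
    ∃ θ : ↥D.O →* ℂˣ, θ ≠ 1 ∧ (∀ a : D.O, (a : G) ∈ D.four₁.T → θ a = 1) ∧
      (∀ a b : D.O, D.s * (a : G) * D.s⁻¹ = b → θ b = θ a) ∧
      ∀ a b : D.O, D.r * (a : G) * D.r⁻¹ = b → θ b = θ a := by
  classical
  set X : Subgroup D.O := (D.four₁.T ⊔ Lmin D).subgroupOf D.O with hX
  set N : Subgroup D.O := X ⊔ _root_.commutator D.O with hN
  haveI hNn : N.Normal := Subgroup.Normal.of_commutator_le _ le_sup_right
  have hNtop : N ≠ ⊤ := by
    intro htop
    set K : Subgroup D.O := (centralizer (D.four₁.T : Set G)).subgroupOf D.O with hK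
    haveI : K.Normal := normal_subgroupOf_of_le_normalizer
      ((O_le_normalizer_T D.four₁).trans (Cfsg.Lib.Thompson.normalizer_le_normalizer_centralizer _))
    have hXK : X ≤ K := fun x hx => (sup_le (fun y hy => mem_centralizer_iff.2 fun z hz => T_comm D habel hz hy)
      (Lmin_central D habel hm hmax hsq) : D.four₁.T ⊔ Lmin D ≤ _) hx
    have hperf : _root_.commutator (D.O ⧸ K) = ⊤ := by
      have h : (_root_.commutator D.O).map (QuotientGroup.mk' K) = _root_.commutator (D.O ⧸ K) := by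
        rw [_root_.commutator_def, Subgroup.map_commutator,
          Subgroup.map_top_of_surjective _ (QuotientGroup.mk'_surjective K), ← _root_.commutator_def]
      rw [← h, ← Subgroup.map_top_of_surjective _ (QuotientGroup.mk'_surjective K), ← htop, hN, Subgroup.map_sup,
        show X.map (QuotientGroup.mk' K) = ⊥ from (Subgroup.map_eq_bot_iff X).2
          (by rw [QuotientGroup.ker_mk']; exact hXK), bot_sup_eq]
    haveI : Group.IsSolvable D.O := Cfsg.Agent.PF.isSolvable_of_odd _ D.odd_card_O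
    haveI : Group.IsSolvable (D.O ⧸ K) := Group.isSolvable_of_surjective (QuotientGroup.mk'_surjective K)
    have hsub : Subsingleton (D.O ⧸ K) := by
      by_contra h
      rw [not_subsingleton_iff_nontrivial] at h
      exact (Group.IsSolvable.commutator_lt_top_of_nontrivial (D.O ⧸ K)).ne hperf
    obtain ⟨w, hw, x, hx, hne⟩ := moves D habel hm hmax hsq hW
    have h1 : (⟨w, D.four₁.W_le hw⟩ : D.O) ∈ K := (QuotientGroup.eq_one_iff _).1 (Subsingleton.elim _ _)
    exact hne (mem_centralizer_iff.1 h1 x hx).symm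
  letI : CommGroup (D.O ⧸ N) :=
    { (inferInstance : Group (D.O ⧸ N)) with
      mul_comm := by
        intro p q
        induction p using QuotientGroup.induction_on with | _ p => ?_
        induction q using QuotientGroup.induction_on with | _ q => ?_
        rw [← QuotientGroup.mk_mul, ← QuotientGroup.mk_mul, QuotientGroup.eq]
        refine mem_sup_right ?_
        rw [_root_.commutator_def, show (p * q)⁻¹ * (q * p) = ⁅q⁻¹, p⁻¹⁆ by rw [commutatorElement_def]; group]
        exact Subgroup.commutator_mem_commutator (mem_top _) (mem_top _) }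
  obtain ⟨g, hg⟩ : ∃ g : D.O ⧸ N, g ≠ 1 := by
    by_contra h
    push Not at h
    exact hNtop (eq_top_iff.2 fun x _ => (QuotientGroup.eq_one_iff x).1 (h _))
  obtain ⟨φ, hφ⟩ := CommGroup.exists_apply_ne_one_of_hasEnoughRootsOfUnity (D.O ⧸ N) ℂ hg
  refine ⟨φ.comp (QuotientGroup.mk' N), fun e => ?_, fun a ha => ?_, ?_⟩
  · obtain ⟨y, rfl⟩ := QuotientGroup.mk'_surjective N g
    exact hφ (DFunLike.congr_fun e y)
  · have : (a : D.O) ∈ N := mem_sup_left (mem_subgroupOf.2 (mem_sup_left ha))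
    show φ (a : D.O ⧸ N) = 1
    rw [(QuotientGroup.eq_one_iff a).2 this, map_one]
  have key : ∀ a b : D.O, (a : G)⁻¹ * b ∈ D.four₁.T ⊔ Lmin D →
      φ.comp (QuotientGroup.mk' N) b = φ.comp (QuotientGroup.mk' N) a := fun a b h => by
    show φ (b : D.O ⧸ N) = φ (a : D.O ⧸ N)
    rw [QuotientGroup.eq.2 (mem_sup_left (mem_subgroupOf.2 h) : a⁻¹ * b ∈ N)]
  have hTn : ∀ w ∈ D.four₁.W, ∀ i ∈ D.four₁.T, w⁻¹ * i * w ∈ D.four₁.T := fun w hw i hi =>
    (mem_normalizer_iff''.1 (W_le_normalizer_T D.four₁ hw) i).1 hi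
  constructor <;> intro a b hab <;> refine key a b ?_ <;> rw [← hab] <;>
    obtain ⟨w, hw, i, hi, hiu, e⟩ := exists_mul D.four₁ a.2 <;> rw [e]
  · have hiT := D.four₁.mem_T hi hiu
    rw [show (w * i)⁻¹ * (D.s * (w * i) * D.s⁻¹) =
      i⁻¹ * (w⁻¹ * (D.s * w * D.s⁻¹)) * (D.s * i * D.s⁻¹) by group]
    exact mul_mem (mul_mem (mem_sup_left (inv_mem hiT)) (mem_sup_right (commutator_mem_Lmin D habel hsq hw)))
      (mem_sup_left (s_mem_T D habel hsq hiT))
  · have hiT := D.four₁.mem_T hi hiu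
    rw [← _root_.conj_mul, mul_inv_eq_iff_eq_mul.2 (D.four₁.mem_W.1 hw).2.symm,
      show D.r * i * D.r⁻¹ = i⁻¹ from hiu, show (w * i)⁻¹ * (w * i⁻¹) = i⁻¹ * i⁻¹ by group]
    exact mem_sup_left (mul_mem (inv_mem hiT) (inv_mem hiT))

end Cfsg.Lib.GWD.Kill
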