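import Cfsg.Agent.GWDihedral.Kill.StepTwo
import Cfsg.Agent.GWDihedral.Kill.Core

/-!
GW dihedral, the end, step 3: the parts of `[O, r]` fixed and inverted by `s` have coprime orders, so what `s` inverts
in `C_O(r)` centralises `[O, r]`.
-/

set_option autoImplicit false
set_option linter.unusedSectionVars false
set_option linter.style.haveILetI false

namespace Cfsg.Lib.GWD.Kill

open Subgroup Cfsg.Lib.GenDihedral
open Cfsg.Lib.GW (Core core_le le_normalizer_core)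

universe u

variable {G : Type u} [Group G] [Finite G] (D : Frame G)

/-- `s ^ 2` centralises `O`. -/
abbrev Sq : Prop := ∀ o ∈ D.O, D.s ^ 2 * o = o * D.s ^ 2

theorem sq_flip (hsq : Sq D) : Sq D.flip := hsq

theorem s_s_conj (hsq : Sq D) {o : G} (ho : o ∈ D.O) : D.s * (D.s * o * D.s⁻¹) * D.s⁻¹ = o := by
  have h := hsq o ho
  rw [pow_two] at h
  rw [Cfsg.Lib.GenDihedral.conj_conj, h, mul_inv_cancel_right]

theorem s_conj_mem {o : G} (ho : o ∈ D.O) : D.s * o * D.s⁻¹ ∈ D.O :=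
  (mem_normalizer_iff.1 (D.C_le_normalizer_O (D.S_le_C D.s_mem_S)) o).1 ho

theorem r_s_conj (hsq : Sq D) {o : G} (ho : o ∈ D.O) :
    D.r * (D.s * o * D.s⁻¹) * D.r⁻¹ = D.s * (D.r * o * D.r⁻¹) * D.s⁻¹ := by
  have hro : D.r * o * D.r⁻¹ ∈ D.O :=
    (mem_normalizer_iff.1 (D.C_le_normalizer_O (D.S_le_C D.r_mem_S)) o).1 ho
  have e1 : D.r * (D.s * o * D.s⁻¹) * D.r⁻¹ = D.s⁻¹ * (D.r * o * D.r⁻¹) * D.s := by
    rw [← _root_.conj_mul, ← _root_.conj_mul, ← _root_.conj_inv, D.rel, inv_inv]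
  have h := hsq _ hro
  rw [pow_two] at h
  rw [e1]
  calc D.s⁻¹ * (D.r * o * D.r⁻¹) * D.s = D.s⁻¹ * (D.r * o * D.r⁻¹ * (D.s * D.s)) * D.s⁻¹ := by group
    _ = D.s⁻¹ * (D.s * D.s * (D.r * o * D.r⁻¹)) * D.s⁻¹ := by rw [h]
    _ = _ := by group

theorem s_conj_W (hsq : Sq D) {w : G} (hw : w ∈ D.four₁.W) : D.s * w * D.s⁻¹ ∈ D.four₁.W := by
  refine D.four₁.mem_W.2 ⟨s_conj_mem D (D.four₁.W_le hw), (mul_inv_eq_iff_eq_mul.1 ?_).symm⟩
  show D.r * (D.s * w * D.s⁻¹) * D.r⁻¹ = _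
  rw [r_s_conj D hsq (D.four₁.W_le hw), mul_inv_eq_iff_eq_mul.2 (D.four₁.mem_W.1 hw).2.symm]

theorem s_conj_inverted (hsq : Sq D) {i : G} (hi : i ∈ D.O) (hir : D.r * i * D.r⁻¹ = i⁻¹) :
    D.r * (D.s * i * D.s⁻¹) * D.r⁻¹ = (D.s * i * D.s⁻¹)⁻¹ := by
  rw [r_s_conj D hsq hi, hir, _root_.conj_inv]

theorem s_norm_W (hsq : Sq D) : D.s ∈ normalizer (D.four₁.W : Set G) := by
  rw [mem_normalizer_iff_map_conj_eq]
  refine Subgroup.eq_of_le_of_card_ge ?_ (card_map_of_injective (MulAut.conj D.s).injective).ge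
  rintro _ ⟨w, hw, rfl⟩
  exact s_conj_W D hsq hw

theorem s_norm_T (hsq : Sq D) : D.s ∈ normalizer (D.four₁.T : Set G) :=
  Cfsg.Lib.GenDihedral.mem_normalizer_closure fun x hx =>
    subset_closure ⟨s_conj_mem D hx.1, s_conj_inverted D hsq hx.1 hx.2⟩

theorem C_norm_T (hsq : Sq D) : D.C ≤ normalizer (D.four₁.T : Set G) :=
  C_le_normalizer D (O_le_normalizer_T D.four₁) (s_norm_T D hsq)
    (Cfsg.Lib.GenDihedral.mem_normalizer_closure fun x hx => by
      rw [show D.r * x * D.r⁻¹ = x⁻¹ from hx.2]; exact inv_mem (subset_closure hx))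

variable (habel : IsMulCommutative D.four₁.T)
include habel

theorem inter_eq_one {x : G} (hT : x ∈ D.four₁.T) (hW : x ∈ D.four₁.W) : x = 1 :=
  eq_one_of_fix_inv (odd_of_mem_T D hT) (mul_inv_eq_iff_eq_mul.2 (D.four₁.mem_W.1 hW).2.symm)
    (T_inverted D habel hT)

theorem unique_mul {w w' y y' : G} (hw : w ∈ D.four₁.W) (hw' : w' ∈ D.four₁.W) (hy : y ∈ D.four₁.T)
    (hy' : y' ∈ D.four₁.T) (h : w * y = w' * y') : w = w' ∧ y = y' := by
  have e : w'⁻¹ * w = y' * y⁻¹ := by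
    calc w'⁻¹ * w = w'⁻¹ * (w * y) * y⁻¹ := by group
      _ = _ := by rw [h]; group
  have h1 := inter_eq_one D habel (e ▸ mul_mem hy' (inv_mem hy) : w'⁻¹ * w ∈ D.four₁.T)
    (mul_mem (inv_mem hw') hw)
  rw [h1, eq_comm, mul_inv_eq_one] at e
  exact ⟨(inv_mul_eq_one.1 h1).symm, e.symm⟩

/-- An element of `O` inverted by `r * s` is the product of one of `C_O(r)` inverted by `s` and one of `[O, r]`. -/
theorem inverted_rs (hsq : Sq D) {o : G} (ho : o ∈ D.O) (hi : D.r * D.s * o * (D.r * D.s)⁻¹ = o⁻¹) :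
    ∃ w ∈ D.four₁.W, ∃ y ∈ D.four₁.T, D.s * w * D.s⁻¹ = w⁻¹ ∧ o = w * y := by
  obtain ⟨w, hw, y, hy, hyu, rfl⟩ := exists_mul D.four₁ ho
  have hyT := D.four₁.mem_T hy hyu
  refine ⟨w, hw, y, hyT, ?_, rfl⟩
  have e1 : D.r * D.s * (w * y) * (D.r * D.s)⁻¹ = D.s * w * D.s⁻¹ * (D.s * y * D.s⁻¹)⁻¹ := by
    rw [show D.r * D.s * (w * y) * (D.r * D.s)⁻¹ =
      D.r * (D.s * w * D.s⁻¹) * D.r⁻¹ * (D.r * (D.s * y * D.s⁻¹) * D.r⁻¹) by group,
      mul_inv_eq_iff_eq_mul.2 (D.four₁.mem_W.1 (s_conj_W D hsq hw)).2.symm, s_conj_inverted D hsq hy hyu]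
  rw [e1, show (w * y)⁻¹ = w⁻¹ * (w * y⁻¹ * w⁻¹) by group] at hi
  exact (unique_mul D habel (s_conj_W D hsq hw) (inv_mem hw)
    (inv_mem ((mem_normalizer_iff.1 (C_norm_T D hsq (D.S_le_C D.s_mem_S)) y).1 hyT))
    ((mem_normalizer_iff.1 (O_le_normalizer_T D.four₁ (D.four₁.W_le hw)) _).1 (inv_mem hyT)) hi).1

theorem s_mem_T (hsq : Sq D) {x : G} (hx : x ∈ D.four₁.T) : D.s * x * D.s⁻¹ ∈ D.four₁.T :=
  (mem_normalizer_iff.1 (s_norm_T D hsq) x).1 hx

/-- `a` inverted by `s` commutes with an element inverted by `s` of an order meeting no element fixed by `s`. -/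
theorem commute_minus (hsq : Sq D) {a x : G} (ha : a ∈ D.O) (has : D.s * a * D.s⁻¹ = a⁻¹) (hx : x ∈ D.four₁.T)
    (hxs : D.s * x * D.s⁻¹ = x⁻¹)
    (hno : ∀ e ∈ D.four₁.T, orderOf e ∣ orderOf x → D.s * e * D.s⁻¹ = e → e = 1) : a * x = x * a := by
  set x' := a * x * a⁻¹ with hx'
  have hx'T : x' ∈ D.four₁.T := (mem_normalizer_iff.1 (O_le_normalizer_T D.four₁ ha) x).1 hx
  have hsx' := s_mem_T D habel hsq hx'T
  have hc : Commute x' (D.s * x' * D.s⁻¹) := T_comm D habel hx'T hsx'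
  have h1 : x' * (D.s * x' * D.s⁻¹) = 1 := by
    refine hno _ (mul_mem hx'T hsx') (orderOf_dvd_of_pow_eq_one ?_) ?_
    · have hp : x' ^ orderOf x = 1 := by rw [hx', conj_pow, pow_orderOf_eq_one]; group
      rw [hc.mul_pow, hp, conj_pow, hp]; group
    · rw [← _root_.conj_mul, s_s_conj D hsq (D.four₁.T_le hx'T), hc.eq]
  have h2 : a⁻¹ * x⁻¹ * a = a * x⁻¹ * a⁻¹ := by
    have e : D.s * x' * D.s⁻¹ = a⁻¹ * x⁻¹ * a := by
      rw [hx', ← _root_.conj_mul, ← _root_.conj_mul, ← _root_.conj_inv, has, hxs, inv_inv]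
    rw [← e, eq_inv_of_mul_eq_one_right h1, hx']; group
  have h3 : a * a * x⁻¹ = x⁻¹ * (a * a) := by
    calc a * a * x⁻¹ = a * (a * x⁻¹ * a⁻¹) * a := by group
      _ = a * (a⁻¹ * x⁻¹ * a) * a := by rw [h2]
      _ = _ := by group
  exact (commute_of_sq (Cfsg.Lib.GW.Frame.odd_orderOf D.odd_card_O ha)
    (by simpa using (show Commute (a * a) x⁻¹ from h3).inv_right)).eq

/-- No prime has elements of `[O, r]` fixed and inverted by `s`. -/
theorem no_both (hm : Minimal G) (hmax : IsCoatom D.C) (hsq : Sq D) {q : ℕ} (hq : q.Prime) {y b : G}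
    (hy : y ∈ D.four₁.T) (hys : D.s * y * D.s⁻¹ = y) (hyq : orderOf y = q) (hb : b ∈ D.four₁.T)
    (hbs : D.s * b * D.s⁻¹ = b⁻¹) (hbq : orderOf b = q) : False := by
  haveI : Fact q.Prime := ⟨hq⟩
  have hrsy : ∀ x ∈ D.four₁.T, D.s * x * D.s⁻¹ = x → D.r * D.s * x * (D.r * D.s)⁻¹ = x⁻¹ := fun x hx hxs => by
    rw [← Cfsg.Lib.GenDihedral.conj_conj, hxs, T_inverted D habel hx]
  have hinv : ∀ {p : ℕ} {x : G}, x ∈ D.four₁.T → D.s * x * D.s⁻¹ = x → orderOf x = p →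
      Inv D.four₁ p ∧ Inv D.four₂ p := fun hx hxs hxp =>
    ⟨⟨_, D.four₁.T_le hx, hxp, T_inverted D habel hx⟩, ⟨_, D.four₁.T_le hx, hxp, hrsy _ hx hxs⟩⟩
  have hbO := D.four₁.T_le hb
  have hbo := odd_of_mem_T D hb
  have hb1 : b ≠ 1 := fun e => hq.one_lt.ne (by rw [← hbq, e, orderOf_one])
  have hrsb : D.r * D.s * b * (D.r * D.s)⁻¹ = b := by
    rw [← Cfsg.Lib.GenDihedral.conj_conj, hbs, T_inverted D habel (inv_mem hb), inv_inv]
  have hbW : b ∈ D.four₂.W := D.four₂.mem_W.2 ⟨hbO, (mul_inv_eq_iff_eq_mul.1 hrsb).symm⟩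
  obtain ⟨S, -, hl₂⟩ := local_of_inv D hm hmax habel hq (hinv hy hys hyq).1 (hinv hy hys hyq).2
  set H := normalizer ((zpowers b : Subgroup G) : Set G) with hH
  have hrot : Rot D.four₂ H := (hl₂.fusing_centralizer (zpowers b) (zpowers_le.2 hbW)
    (IsPGroup.of_card (n := 1) (by rw [Nat.card_zpowers, hbq, pow_one]))
    (fun e => hb1 (zpowers_eq_bot.1 e))).mono (centralizer_le_normalizer _)
  have hHtop : H ≠ ⊤ := fun e => by
    haveI := hm.simple
    rcases (normalizer_eq_top_iff.1 e).eq_bot_or_eq_top with h | h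
    · exact hb1 (zpowers_eq_bot.1 h)
    · exact hmax.1 (top_le_iff.1 (h ▸ (zpowers_le.2 (D.O_le hbO))))
  have hrH : D.r ∈ H := by
    rw [hH, zpowers_eq_closure]
    refine Cfsg.Lib.GenDihedral.mem_normalizer_closure fun z hz => ?_
    rw [Set.mem_singleton_iff.1 hz, T_inverted D habel hb]
    exact inv_mem (subset_closure rfl)
  -- what the torus holds
  have hmem : ∀ x ∈ D.four₁.T, D.s * x * D.s⁻¹ = x → x ∈ H ⊓ D.four₂.O ∧ D.r * D.s * x * (D.r * D.s)⁻¹ = x⁻¹ :=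
    fun x hx hxs => ⟨⟨centralizer_le_normalizer _ (by
      rw [zpowers_eq_closure, centralizer_closure, mem_centralizer_singleton_iff]
      exact T_comm D habel hx hb), D.four₁.T_le hx⟩, hrsy x hx hxs⟩
  have hncore : ∀ {p : ℕ} {x : G}, p.Prime → x ∈ D.four₁.T → D.s * x * D.s⁻¹ = x → orderOf x = p →
      x ∉ Core H := by
    intro p x hp hx hxs hxp hxc
    haveI : Fact p.Prime := ⟨hp⟩
    obtain ⟨S', -, hl⟩ := local_of_inv D hm hmax habel hp (hinv hx hxs hxp).1 (hinv hx hxs hxp).2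
    have h := hl.core_fixed H hHtop hrot (zpowers x) (IsPGroup.of_card (n := 1) (by rw [Nat.card_zpowers, hxp, pow_one]))
      (zpowers_le.2 hxc) (D.four₂.U_le_iff.2 ⟨?_, ?_⟩) (mem_zpowers x)
    · refine hp.one_lt.ne ?_
      rw [← hxp, eq_one_of_fix_inv (odd_of_mem_T D hx)
        (mul_inv_eq_iff_eq_mul.2 (D.four₂.mem_centralizer_U.1 h).2.symm) (hrsy x hx hxs), orderOf_one]
    · refine centralizer_le_normalizer _ ?_
      rw [zpowers_eq_closure, centralizer_closure, mem_centralizer_singleton_iff]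
      exact (D.mem_C.1 (D.O_le (D.four₁.T_le hx))).symm
    · rw [zpowers_eq_closure]
      refine Cfsg.Lib.GenDihedral.mem_normalizer_closure fun z hz => ?_
      rw [Set.mem_singleton_iff.1 hz, show D.four₂.u * x * D.four₂.u⁻¹ = x⁻¹ from hrsy x hx hxs]
      exact inv_mem (subset_closure rfl)
  obtain ⟨v, w', p, hp, hp2, -, hvp, hvt, hw', hvw, hvb, hw'b, hcore⟩ := hm.outer D.four₂ hHtop hrot hbo hb1 le_rfl
    (D.mem_C.1 (D.O_le hbO)).symm D.r_order hrH D.r_comm.symm (T_inverted D habel hb) (hmem y hy hys).1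
    (hmem y hy hys).2 (hncore hq hy hys hyq)
  have hw'cl : Class1 D w' := by
    rcases hw' with rfl | rfl
    exacts [class1_r D, class1_tr D (class1_r D)]
  obtain ⟨g, hgw, hgO, hgi⟩ := exists_to_inverted D hm (hvp ▸ hp.odd_of_ne_two hp2) hw'cl hvw hvt
  set z := g * v * g⁻¹ with hz
  have hzT : z ∈ D.four₁.T := D.four₁.mem_T hgO hgi
  have hzp : orderOf z = p := by rw [hz, ← MulAut.conj_apply, MulEquiv.orderOf_eq, hvp]
  have hno : ∀ e ∈ D.four₁.T, orderOf e ∣ p → D.s * e * D.s⁻¹ = e → e = 1 := fun e he hed hes => by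
    rcases (Nat.dvd_prime hp).1 hed with h | h
    · exact orderOf_eq_one_iff.1 h
    · exact absurd (hcore e (hmem e he hes).1 (hmem e he hes).2 h) (hncore hp he hes h)
  have hzs : D.s * z * D.s⁻¹ = z⁻¹ := by
    have hsz := s_mem_T D habel hsq hzT
    have hc : Commute z (D.s * z * D.s⁻¹) := T_comm D habel hzT hsz
    refine eq_inv_of_mul_eq_one_right (hno _ (mul_mem hzT hsz) (orderOf_dvd_of_pow_eq_one ?_) ?_)
    · have hzpow : z ^ p = 1 := hzp ▸ pow_orderOf_eq_one z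
      rw [hc.mul_pow, hzpow, conj_pow, hzpow]; group
    · rw [← _root_.conj_mul, s_s_conj D hsq (D.four₁.T_le hzT), hc.eq]
  have hz1 : z ≠ 1 := fun e => hp.one_lt.ne (by rw [← hzp, e, orderOf_one])
  have hzrs : D.r * D.s * z * (D.r * D.s)⁻¹ = z := by
    rw [← Cfsg.Lib.GenDihedral.conj_conj, hzs, T_inverted D habel (inv_mem hzT), inv_inv]
  have hzN : D.s ∈ normalizer ((zpowers z : Subgroup G) : Set G) := by
    rw [zpowers_eq_closure]
    refine Cfsg.Lib.GenDihedral.mem_normalizer_closure fun x hx => ?_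
    rw [Set.mem_singleton_iff.1 hx, hzs]
    exact inv_mem (subset_closure rfl)
  have hcent : centralizer ({z} : Set G) ≤ D.C :=
    cent_le_C D hm hmax (fun H hS => core_le_C D hm hmax habel hS) hgO hz1 hgi
      (Or.inr (not_rot D.flip hm hmax (s_norm_W D.flip (sq_flip D hsq))
        (D.four₂.mem_W.2 ⟨hgO, (mul_inv_eq_iff_eq_mul.1 hzrs).symm⟩) hz1
        (by rw [show D.flip.s * z * D.flip.s⁻¹ = z⁻¹ from hzs]; exact inv_mem (mem_zpowers z))
        fun i hi hii => by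
          obtain ⟨w, hw, y', hy', hws, rfl⟩ := inverted_rs D habel hsq hi hii
          have c1 : w * z = z * w := commute_minus D habel hsq (D.four₁.W_le hw) hws hzT hzs (fun e he hed =>
            hno e he (hzp ▸ hed))
          exact ((show Commute z w from c1.symm).mul_right (T_comm D habel hzT hy')).eq)) hzN
  -- the conjugate of `b` inverted by `t`
  have hb'C : g * b * g⁻¹ ∈ D.C := hcent (mem_centralizer_singleton_iff.2 (by
    rw [hz, _root_.conj_mul, _root_.conj_mul, hvb]))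
  have h1 : D.t * (g * b * g⁻¹) * D.t⁻¹ = (g * b * g⁻¹)⁻¹ := by
    rw [← hgw, show g * w' * g⁻¹ * (g * b * g⁻¹) * (g * w' * g⁻¹)⁻¹ = g * (w' * b * w'⁻¹) * g⁻¹ by group, hw'b,
      _root_.conj_inv]
  have h2 : D.t * (g * b * g⁻¹) * D.t⁻¹ = g * b * g⁻¹ := mul_inv_eq_iff_eq_mul.2 (D.mem_C.1 hb'C).symm
  exact hb1 (conj_eq_one_iff.1 (eq_one_of_fix_inv (by rwa [← MulAut.conj_apply, MulEquiv.orderOf_eq]) h2 h1))

/-- The fixed and the inverted part of `[O, r]` have coprime orders. -/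
theorem coprime_parts (hm : Minimal G) (hmax : IsCoatom D.C) (hsq : Sq D) {α β : G} (hα : α ∈ D.four₁.T)
    (hαs : D.s * α * D.s⁻¹ = α) (hβ : β ∈ D.four₁.T) (hβs : D.s * β * D.s⁻¹ = β⁻¹) :
    (orderOf α).Coprime (orderOf β) := by
  refine Nat.coprime_of_dvd fun q hq h1 h2 => ?_
  exact no_both D habel hm hmax hsq hq (pow_mem hα (orderOf α / q)) (by rw [← conj_pow, hαs])
    (orderOf_pow_orderOf_div (orderOf_pos α).ne' h1) (pow_mem hβ (orderOf β / q)) (by rw [← conj_pow, hβs, inv_pow])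
    (orderOf_pow_orderOf_div (orderOf_pos β).ne' h2)

/-- The two parts. -/
theorem split_T (hsq : Sq D) {x : G} (hx : x ∈ D.four₁.T) : ∃ a ∈ D.four₁.T, ∃ b ∈ D.four₁.T,
    D.s * a * D.s⁻¹ = a ∧ D.s * b * D.s⁻¹ = b⁻¹ ∧ x = a * b := by
  obtain ⟨k, hk⟩ := odd_of_mem_T D hx
  set x' := D.s * x * D.s⁻¹ with hx'
  have hx'T : x' ∈ D.four₁.T := s_mem_T D habel hsq hx
  have hc : Commute x x' := T_comm D habel hx hx'T
  have hsx' : D.s * x' * D.s⁻¹ = x := s_s_conj D hsq (D.four₁.T_le hx)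
  refine ⟨(x * x') ^ (k + 1), pow_mem (mul_mem hx hx'T) _, (x * x'⁻¹) ^ (k + 1),
    pow_mem (mul_mem hx (inv_mem hx'T)) _, ?_, ?_, ?_⟩
  · rw [← conj_pow, ← _root_.conj_mul, ← hx', hsx', hc.eq]
  · rw [← conj_pow, ← _root_.conj_mul, ← _root_.conj_inv, ← hx', hsx', ← inv_pow, mul_inv_rev, inv_inv]
  · have h1 : Commute (x * x') (x * x'⁻¹) :=
      T_comm D habel (mul_mem hx hx'T) (mul_mem hx (inv_mem hx'T))
    rw [← h1.mul_pow, show x * x' * (x * x'⁻¹) = x * x by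
      rw [mul_assoc, ← mul_assoc x', ← hc.eq]; group, ← pow_two, ← pow_mul,
      show 2 * (k + 1) = orderOf x + 1 by omega, pow_succ, pow_orderOf_eq_one, one_mul]

/-- What `s` inverts in `O` centralises `[O, r]`. -/
theorem minus_central (hm : Minimal G) (hmax : IsCoatom D.C) (hsq : Sq D) {a x : G} (ha : a ∈ D.O)
    (has : D.s * a * D.s⁻¹ = a⁻¹) (hx : x ∈ D.four₁.T) : a * x = x * a := by
  obtain ⟨α, hα, β, hβ, hαs, hβs, rfl⟩ := split_T D habel hsq hx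
  have h1 : a * β = β * a := commute_minus D habel hsq ha has hβ hβs fun e he hed hes => by
    have := coprime_parts D habel hm hmax hsq he hes hβ hβs
    exact orderOf_eq_one_iff.1 (Nat.eq_one_of_dvd_coprimes this dvd_rfl hed)
  set α' := a * α * a⁻¹ with hα'
  have hα'T : α' ∈ D.four₁.T := (mem_normalizer_iff.1 (O_le_normalizer_T D.four₁ ha) α).1 hα
  have hsα' := s_mem_T D habel hsq hα'T
  have hc : Commute α' (D.s * α' * D.s⁻¹)⁻¹ := T_comm D habel hα'T (inv_mem hsα')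
  have h2 : D.s * α' * D.s⁻¹ = α' := by
    set e := α' * (D.s * α' * D.s⁻¹)⁻¹ with he
    have hes : D.s * e * D.s⁻¹ = e⁻¹ := by
      rw [he, ← _root_.conj_mul, ← _root_.conj_inv, s_s_conj D hsq (D.four₁.T_le hα'T)]
      group
    have hed : orderOf e ∣ orderOf α := orderOf_dvd_of_pow_eq_one (by
      have hp : α' ^ orderOf α = 1 := by rw [hα', conj_pow, pow_orderOf_eq_one]; group
      rw [he, hc.mul_pow, inv_pow, hp, conj_pow, hp]; group)
    have := coprime_parts D habel hm hmax hsq hα hαs (mul_mem hα'T (inv_mem hsα')) hes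
    have he1 : e = 1 := orderOf_eq_one_iff.1 (Nat.eq_one_of_dvd_coprimes this hed dvd_rfl)
    rw [he, mul_inv_eq_one] at he1
    exact he1.symm
  have h3 : a⁻¹ * α * a = a * α * a⁻¹ := by
    rw [← hα', ← h2, hα', ← _root_.conj_mul, ← _root_.conj_mul, ← _root_.conj_inv, has, hαs, inv_inv]
  have h4 : a * a * α = α * (a * a) := by
    calc a * a * α = a * (a * α * a⁻¹) * a := by group
      _ = a * (a⁻¹ * α * a) * a := by rw [h3]
      _ = _ := by group
  have h5 : Commute a α := commute_of_sq (Cfsg.Lib.GW.Frame.odd_orderOf D.odd_card_O ha) h4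
  exact (h5.mul_right h1).eq

end Cfsg.Lib.GWD.Kill
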