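import Cfsg.Agent.GWDihedral.Kill.Basic

/-!
GW dihedral, the end, step 2: `s ^ 2` centralises `O`.
-/

set_option autoImplicit false
set_option linter.unusedSectionVars false
set_option linter.style.haveILetI false

namespace Cfsg.Lib.GWD.Kill

open Subgroup Cfsg.Lib.GenDihedral
open Cfsg.Lib.GW (Core core_le le_normalizer_core)

universe u

variable {G : Type u} [Group G] [Finite G] (D : Frame G)

/-- `r` inverts an abelian `[O, r]`. -/
theorem T_inverted (habel : IsMulCommutative D.four₁.T) {x : G} (hx : x ∈ D.four₁.T) :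
    D.r * x * D.r⁻¹ = x⁻¹ := by
  haveI := habel
  suffices h : x ∈ D.four₁.T ∧ D.r * x * D.r⁻¹ = x⁻¹ from h.2
  refine closure_induction (p := fun y _ => y ∈ D.four₁.T ∧ D.r * y * D.r⁻¹ = y⁻¹) ?_ ?_ ?_ ?_ hx
  · exact fun y hy => ⟨subset_closure hy, hy.2⟩
  · exact ⟨one_mem _, by simp⟩
  · rintro a b - - ⟨ha, ha'⟩ ⟨hb, hb'⟩
    refine ⟨mul_mem ha hb, ?_⟩
    have hc : a * b = b * a := congrArg Subtype.val (mul_comm' (⟨a, ha⟩ : D.four₁.T) ⟨b, hb⟩)
    rw [← _root_.conj_mul, ha', hb', ← mul_inv_rev, hc]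
  · rintro a - ⟨ha, ha'⟩
    exact ⟨inv_mem ha, by rw [← _root_.conj_inv, ha']⟩

theorem T_comm (habel : IsMulCommutative D.four₁.T) {x y : G} (hx : x ∈ D.four₁.T) (hy : y ∈ D.four₁.T) :
    x * y = y * x := by
  haveI := habel
  exact congrArg Subtype.val (mul_comm' (⟨x, hx⟩ : D.four₁.T) ⟨y, hy⟩)

theorem odd_of_mem_T {x : G} (hx : x ∈ D.four₁.T) : Odd (orderOf x) :=
  Cfsg.Lib.GW.Frame.odd_orderOf D.four₁.odd_card_O (D.four₁.T_le hx)

/-- `Lc` at every prime of `[O, r]` when the Sylow 2-subgroup has order at least 16. -/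
theorem coreFixed_four (hm : Minimal G) (hmax : IsCoatom D.C) (habel : IsMulCommutative D.four₁.T) (hn : 4 ≤ D.n)
    {q : ℕ} (hq : q.Prime) {e : G} (he : e ∈ D.four₁.T) (heq : orderOf e = q) : CoreFixed D.four₁ q := by
  haveI : Fact q.Prime := ⟨hq⟩
  obtain ⟨S, hd, hSn, -, -⟩ := Mixed.exists_sylData D hq (mem_R D habel he (k := 1) (by rw [heq, pow_one]))
    (fun h => hq.one_lt.ne (by
      rw [← heq, eq_one_of_fix_inv (odd_of_mem_T D he) h (T_inverted D habel he), orderOf_one]))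
  obtain ⟨⟨P, hP⟩, -, -⟩ := D.cent_inv_of_ne_three hm hmax (fun V => hm.properSpec V) hd hSn (Or.inr hn)
  exact coreFixed_all hm hd (fun V => (hm.properSpec V).odd) hP D.four₁

/-- An element of prime order centralised by `r` and inverted by `s ^ 2 ^ c`, whose square centralises `O`, is
trivial. -/
theorem inverted_trivial (hm : Minimal G) (hmax : IsCoatom D.C) (habel : IsMulCommutative D.four₁.T) {c : ℕ}
    (hc : 1 ≤ c) (hn : 4 ≤ D.n) (hx2 : ∀ o ∈ D.O, D.s ^ 2 ^ c * D.s ^ 2 ^ c * o = o * (D.s ^ 2 ^ c * D.s ^ 2 ^ c))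
    {a : G} (ha : a ∈ D.O) {p : ℕ} (hp : p.Prime) (hap : orderOf a = p) (har : D.r * a * D.r⁻¹ = a)
    (hax : D.s ^ 2 ^ c * a * (D.s ^ 2 ^ c)⁻¹ = a⁻¹) : False := by
  haveI : Fact p.Prime := ⟨hp⟩
  set x := D.s ^ 2 ^ c with hx
  have hao : Odd (orderOf a) := Cfsg.Lib.GW.Frame.odd_orderOf D.odd_card_O ha
  have ha1 : a ≠ 1 := fun e => by rw [e, orderOf_one] at hap; exact hp.one_lt.ne hap
  obtain ⟨j, rfl⟩ : ∃ j, c = j + 1 := ⟨c - 1, by omega⟩
  -- the conjugate `r' = r * x` of `r`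
  set g := D.s ^ (-(2 ^ j : ℕ) : ℤ) with hg
  have hgS : g ∈ D.S := zpow_mem D.s_mem_S _
  have hr' : g * D.r * g⁻¹ = D.r * x := by
    rw [hg, s_conj_r, hx, show -(2 * -((2 ^ j : ℕ) : ℤ)) = ((2 ^ (j + 1) : ℕ) : ℤ) by push_cast; ring, zpow_natCast]
  have hgC : g ∈ D.C := D.S_le_C hgS
  have hgx : ∀ y : G, g⁻¹ * y * g ∈ D.O ↔ y ∈ D.O := fun y =>
    ((mem_normalizer_iff''.1 (D.C_le_normalizer_O hgC)) y).symm
  have hr'inv : ∀ y : G, D.r * x * y * (D.r * x)⁻¹ = y⁻¹ → y ∈ D.O → g⁻¹ * y * g ∈ D.four₁.T := by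
    intro y hy hyO
    refine D.four₁.mem_T ((hgx y).2 hyO) ?_
    show D.r * (g⁻¹ * y * g) * D.r⁻¹ = (g⁻¹ * y * g)⁻¹
    rw [show D.r * (g⁻¹ * y * g) * D.r⁻¹ = g⁻¹ * (g * D.r * g⁻¹ * y * (g * D.r * g⁻¹)⁻¹) * g by group, hr', hy]
    group
  have har' : D.r * x * a * (D.r * x)⁻¹ = a⁻¹ := by
    rw [← Cfsg.Lib.GenDihedral.conj_conj, hax, ← _root_.conj_inv, har]
  have ha'T : g⁻¹ * a * g ∈ D.four₁.T := hr'inv a har' ha
  -- `p` is full
  have ha'p : orderOf (g⁻¹ * a * g) = p := by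
    rw [show g⁻¹ * a * g = MulAut.conj g⁻¹ a by simp, MulEquiv.orderOf_eq, hap]
  have haR : a ∈ D.four₁.R p := by
    have h := mem_R D habel ha'T (k := 1) (ha'p.trans (pow_one p).symm)
    have hn : g ∈ normalizer (D.four₁.R p : Set G) :=
      Cfsg.Lib.OddP.le_normalizer_map_of_char _ (D.C_le_normalizer_O hgC)
    exact (mem_normalizer_iff''.1 hn a).2 h
  have hmv : D.r * (g⁻¹ * a * g) * D.r⁻¹ ≠ g⁻¹ * a * g := fun h => by
    have h1 := eq_one_of_fix_inv (odd_of_mem_T D ha'T) h (T_inverted D habel ha'T)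
    exact ha1 (by
      calc a = g * (g⁻¹ * a * g) * g⁻¹ := by group
        _ = 1 := by rw [h1]; group)
  have hmv₂ : D.r * D.s * a * (D.r * D.s)⁻¹ ≠ a := fun h => by
    have h1 : D.s * a * D.s⁻¹ = a := by
      rw [← Cfsg.Lib.GenDihedral.conj_conj] at h
      exact (MulAut.conj D.r).injective (h.trans har.symm)
    have h2 : x * a * x⁻¹ = a := by
      rw [hx]
      exact mul_inv_eq_iff_eq_mul.2 ((show Commute D.s a from mul_inv_eq_iff_eq_mul.1 h1).pow_left _).eq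
    exact ha1 (eq_one_of_fix_inv hao h2 hax)
  obtain ⟨S, hl₁, -⟩ := local_of_moved D hm hmax hp
    (by
      have hn : g ∈ normalizer (D.four₁.R p : Set G) :=
        Cfsg.Lib.OddP.le_normalizer_map_of_char _ (D.C_le_normalizer_O hgC)
      exact (mem_normalizer_iff''.1 hn a).1 haR) hmv (Or.inl ⟨a, haR, hmv₂⟩)
  have haW : a ∈ D.four₁.W := D.four₁.mem_W.2 ⟨ha, (mul_inv_eq_iff_eq_mul.1 har).symm⟩
  set H := normalizer ((zpowers a : Subgroup G) : Set G) with hH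
  have hrot : Rot D.four₁ H := (hl₁.fusing_centralizer (zpowers a) (zpowers_le.2 haW)
    (IsPGroup.of_card (n := 1) (by rw [Nat.card_zpowers, hap, pow_one]))
    (fun e => ha1 (zpowers_eq_bot.1 e))).mono (centralizer_le_normalizer _)
  have hHtop : H ≠ ⊤ := fun e => by
    haveI := hm.simple
    rcases (normalizer_eq_top_iff.1 e).eq_bot_or_eq_top with h | h
    · exact ha1 (zpowers_eq_bot.1 h)
    · exact hmax.1 (top_le_iff.1 (h ▸ (zpowers_le.2 (D.O_le ha))))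
  have hxH : D.r * x ∈ H := by
    rw [hH, zpowers_eq_closure]
    refine Cfsg.Lib.GenDihedral.mem_normalizer_closure fun z hz => ?_
    rw [Set.mem_singleton_iff.1 hz, har']
    exact inv_mem (subset_closure rfl)
  have hcl : Class1 D (D.r * x) := ⟨g, hgS, hr'⟩
  -- every prime of `[O, r]` has an element centralising `a`
  have hprime : ∀ {q : ℕ} {e : G}, q.Prime → e ∈ D.four₁.T → orderOf e = q →
      ∃ y ∈ H ⊓ D.four₁.O, D.r * y * D.r⁻¹ = y⁻¹ ∧ orderOf y = q ∧ y ∉ Core H := by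
    intro q e hq he heq
    haveI : Fact q.Prime := ⟨hq⟩
    obtain ⟨y, hy, hyq, hya⟩ : ∃ y ∈ D.four₁.T, orderOf y = q ∧ a * y * a⁻¹ = y := by
      have hxT : ∀ y ∈ D.four₁.T, x * y * x⁻¹ ∈ D.four₁.T := fun y hy => by
        have hxC : x ∈ D.C := pow_mem (D.S_le_C D.s_mem_S) _
        refine D.four₁.mem_T ((mem_normalizer_iff.1 (D.C_le_normalizer_O hxC) y).1 (D.four₁.T_le hy)) ?_
        show D.r * (x * y * x⁻¹) * D.r⁻¹ = _
        have hrx : D.r * x * D.r⁻¹ = x⁻¹ := by rw [hx, ← conj_pow, D.rel, inv_pow]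
        rw [← _root_.conj_mul, ← _root_.conj_mul, ← _root_.conj_inv, hrx, T_inverted D habel hy]
        have h3 : Commute (x * x) y⁻¹ := (show Commute (x * x) y from hx2 y (D.four₁.T_le hy)).inv_right
        calc x⁻¹ * y⁻¹ * x⁻¹⁻¹ = x⁻¹ * (y⁻¹ * (x * x)) * x⁻¹ := by group
          _ = x⁻¹ * (x * x * y⁻¹) * x⁻¹ := by rw [h3.eq]
          _ = _ := by group
      have haT : a * e * a⁻¹ ∈ D.four₁.T := (mem_normalizer_iff.1 (O_le_normalizer_T D.four₁ ha) e).1 he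
      have haeq : orderOf (a * e * a⁻¹) = q := by rw [← MulAut.conj_apply, MulEquiv.orderOf_eq, heq]
      -- an element fixed by `x`
      have fixed : ∀ f ∈ D.four₁.T, orderOf f = q → x * f * x⁻¹ ≠ f⁻¹ →
          ∃ y ∈ D.four₁.T, orderOf y = q ∧ a * y * a⁻¹ = y := by
        intro f hf hfq hne
        have hf' := hxT f hf
        refine ⟨f * (x * f * x⁻¹), mul_mem hf hf', orderOf_eq_prime ?_ fun h => hne (eq_inv_of_mul_eq_one_right h), ?_⟩
        · rw [(show Commute f (x * f * x⁻¹) from T_comm D habel hf hf').mul_pow, conj_pow, ← hfq, pow_orderOf_eq_one]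
          group
        set y := f * (x * f * x⁻¹) with hy
        have hxy : x * y * x⁻¹ = y := by
          rw [hy, ← _root_.conj_mul, Cfsg.Lib.GenDihedral.conj_conj, hx2 f (D.four₁.T_le hf), mul_inv_cancel_right,
            T_comm D habel hf hf']
        have hy' : g⁻¹ * y * g ∈ D.four₁.T := by
          refine hr'inv y ?_ (D.four₁.T_le (mul_mem hf hf'))
          rw [← Cfsg.Lib.GenDihedral.conj_conj, hxy, T_inverted D habel (mul_mem hf hf')]
        have h := T_comm D habel ha'T hy'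
        have h' : a * y = y * a := by
          calc a * y = g * (g⁻¹ * a * g * (g⁻¹ * y * g)) * g⁻¹ := by group
            _ = g * (g⁻¹ * y * g * (g⁻¹ * a * g)) * g⁻¹ := by rw [h]
            _ = _ := by group
        rw [h', mul_inv_cancel_right]
      by_cases h1 : x * e * x⁻¹ = e⁻¹
      swap
      · exact fixed e he heq h1
      by_cases h2 : x * (a * e * a⁻¹) * x⁻¹ = (a * e * a⁻¹)⁻¹
      swap
      · exact fixed _ haT haeq h2
      refine ⟨e, he, heq, ?_⟩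
      rw [show x * (a * e * a⁻¹) * x⁻¹ = x * a * x⁻¹ * (x * e * x⁻¹) * (x * a * x⁻¹)⁻¹ by group, hax, h1, inv_inv] at h2
      have h3 : a * a * e⁻¹ = e⁻¹ * (a * a) := by
        calc a * a * e⁻¹ = a * (a * e * a⁻¹)⁻¹ * a := by group
          _ = a * (a⁻¹ * e⁻¹ * a) * a := by rw [← h2]
          _ = _ := by group
      exact mul_inv_eq_iff_eq_mul.2 (commute_of_sq hao (by simpa using (show Commute (a * a) e⁻¹ from h3).inv_right)).eq
    have hyH : y ∈ H := centralizer_le_normalizer _ (by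
      rw [zpowers_eq_closure, centralizer_closure, mem_centralizer_singleton_iff]
      exact (mul_inv_eq_iff_eq_mul.1 hya).symm)
    refine ⟨y, ⟨hyH, D.four₁.T_le hy⟩, T_inverted D habel hy, hyq, fun hyc => ?_⟩
    have hCF := coreFixed_four D hm hmax habel hn hq he heq
    have h := hCF H hHtop hrot (zpowers y) (IsPGroup.of_card (n := 1) (by rw [Nat.card_zpowers, hyq, pow_one]))
      (zpowers_le.2 hyc) (D.four₁.U_le_iff.2 ⟨?_, ?_⟩) (mem_zpowers y)
    · rw [← hyq, eq_one_of_fix_inv (odd_of_mem_T D hy)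
        (mul_inv_eq_iff_eq_mul.2 (D.four₁.mem_centralizer_U.1 h).2.symm) (T_inverted D habel hy), orderOf_one] at hq
      exact hq.one_lt.ne rfl
    · refine centralizer_le_normalizer _ ?_
      rw [zpowers_eq_closure, centralizer_closure, mem_centralizer_singleton_iff]
      exact (D.mem_C.1 (D.O_le (D.four₁.T_le hy))).symm
    · rw [zpowers_eq_closure]
      refine Cfsg.Lib.GenDihedral.mem_normalizer_closure fun z hz => ?_
      rw [Set.mem_singleton_iff.1 hz, show D.four₁.u * y * D.four₁.u⁻¹ = y⁻¹ from T_inverted D habel hy]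
      exact inv_mem (subset_closure rfl)
  obtain ⟨y₀, hy₀, hy₀i, -, hy₀c⟩ := hprime hp ha'T ha'p
  obtain ⟨v, w', q, hq, hq2, -, hvq, hvt, hw', hvw, -, -, hcore⟩ := hm.outer D.four₁ hHtop hrot hao ha1 le_rfl
    (D.mem_C.1 (D.O_le ha)).symm (class1_order D hcl) hxH (class1_comm_t D hcl) har' hy₀ hy₀i hy₀c
  have hw'cl : Class1 D w' := by
    rcases hw' with rfl | rfl
    exacts [hcl, class1_tr D hcl]
  obtain ⟨g₁, -, hgO, hgi⟩ := exists_to_inverted D hm (hvq ▸ hq.odd_of_ne_two hq2) hw'cl hvw hvt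
  obtain ⟨y, hy, hyi, hyq, hyc⟩ := hprime hq (D.four₁.mem_T hgO hgi)
    (by rw [← MulAut.conj_apply, MulEquiv.orderOf_eq, hvq])
  exact hyc (hcore y hy hyi hyq)


/-- Step 2: `s ^ 2` centralises `O`. -/
theorem sq_central (hm : Minimal G) (hmax : IsCoatom D.C) (habel : IsMulCommutative D.four₁.T) :
    ∀ o ∈ D.O, D.s ^ 2 * o = o * D.s ^ 2 := by
  have h3 := D.three_le
  suffices h : ∀ j, j ≤ D.n - 3 → ∀ o ∈ D.O, D.s ^ 2 ^ (D.n - 2 - j) * o = o * D.s ^ 2 ^ (D.n - 2 - j) by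
    intro o ho
    have := h (D.n - 3) le_rfl o ho
    rwa [show D.n - 2 - (D.n - 3) = 1 by omega, pow_one] at this
  intro j
  induction j with
  | zero =>
    intro _ o ho
    exact ((show Commute o D.t from D.mem_C.1 (D.O_le ho)).symm).eq
  | succ j ih =>
    intro hj o ho
    set c := D.n - 2 - (j + 1) with hc
    have hc1 : 1 ≤ c := by omega
    have hn : 4 ≤ D.n := by omega
    set x := D.s ^ 2 ^ c with hx
    have hx2 : ∀ o ∈ D.O, x * x * o = o * (x * x) := fun o ho => by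
      rw [hx, ← pow_add, show 2 ^ c + 2 ^ c = 2 ^ (D.n - 2 - j) by rw [← two_mul, ← pow_succ']; congr 1; omega]
      exact ih (by omega) o ho
    have hxC : x ∈ D.C := pow_mem (D.S_le_C D.s_mem_S) _
    have hxO : ∀ y ∈ D.O, x * y * x⁻¹ ∈ D.O := fun y hy => (mem_normalizer_iff.1 (D.C_le_normalizer_O hxC) y).1 hy
    -- nothing fixed by `r` is inverted by `x`
    have hW : ∀ a ∈ D.O, D.r * a * D.r⁻¹ = a → x * a * x⁻¹ = a⁻¹ → a = 1 := by
      intro a ha har hax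
      by_contra ha1
      obtain ⟨p, hp, hpd⟩ := Nat.exists_prime_and_dvd (fun h => ha1 (orderOf_eq_one_iff.1 h))
      set k := orderOf a / p
      exact inverted_trivial D hm hmax habel hc1 hn hx2 (pow_mem ha k) hp
        (orderOf_pow_orderOf_div (orderOf_pos a).ne' hpd) (by rw [← conj_pow, har]) (by rw [← conj_pow, hax, inv_pow])
    -- nor anything inverted by `r`
    have hB : ∀ b ∈ D.O, D.r * b * D.r⁻¹ = b⁻¹ → x * b * x⁻¹ = b⁻¹ → b = 1 := by
      intro b hb hbr hbx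
      set g := D.s ^ (-(2 ^ (c - 1) : ℕ) : ℤ) with hg
      have hr' : g * D.r * g⁻¹ = D.r * x := by
        rw [hg, s_conj_r, hx, show -(2 * -((2 ^ (c - 1) : ℕ) : ℤ)) = ((2 ^ c : ℕ) : ℤ) by
          rw [show c = c - 1 + 1 by omega, pow_succ]; push_cast; ring, zpow_natCast]
      have hgC : g ∈ D.C := D.S_le_C (zpow_mem D.s_mem_S _)
      have hgx : Commute g x := ((Commute.refl D.s).pow_right _).zpow_left _
      have h1 := hW (g⁻¹ * b * g) ((mem_normalizer_iff''.1 (D.C_le_normalizer_O hgC) b).1 hb) (by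
        rw [show D.r * (g⁻¹ * b * g) * D.r⁻¹ = g⁻¹ * (g * D.r * g⁻¹ * b * (g * D.r * g⁻¹)⁻¹) * g by group, hr',
          ← Cfsg.Lib.GenDihedral.conj_conj, hbx, ← _root_.conj_inv, hbr, inv_inv]) (by
        rw [show x * (g⁻¹ * b * g) * x⁻¹ = x * g⁻¹ * b * (x * g⁻¹)⁻¹ by group, ← hgx.inv_left.eq,
          ← Cfsg.Lib.GenDihedral.conj_conj, hbx]
        group)
      calc b = g * (g⁻¹ * b * g) * g⁻¹ := by group
        _ = 1 := by rw [h1]; group
    -- the commutator with `x` is inverted by `x`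
    have hcom : ∀ y ∈ D.O, x * (y⁻¹ * (x * y * x⁻¹)) * x⁻¹ = (y⁻¹ * (x * y * x⁻¹))⁻¹ := fun y hy => by
      calc x * (y⁻¹ * (x * y * x⁻¹)) * x⁻¹ = (x * y⁻¹ * x⁻¹) * (x * x * y * (x * x)⁻¹) := by group
        _ = (x * y⁻¹ * x⁻¹) * y := by rw [hx2 y hy, mul_inv_cancel_right]
        _ = _ := by group
    have hfix : ∀ y ∈ D.O, y⁻¹ * (x * y * x⁻¹) = 1 → x * y = y * x := fun y hy h =>
      mul_inv_eq_iff_eq_mul.1 (inv_mul_eq_one.1 h).symm
    have hrx : D.r * x * D.r⁻¹ = x⁻¹ := by rw [hx, ← conj_pow, D.rel, inv_pow]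
    have hcj : ∀ y ∈ D.O, x⁻¹ * y * x = x * y * x⁻¹ := fun y hy => by
      calc x⁻¹ * y * x = x⁻¹ * (y * (x * x)) * x⁻¹ := by group
        _ = x⁻¹ * (x * x * y) * x⁻¹ := by rw [hx2 y hy]
        _ = _ := by group
    obtain ⟨w, hw, i, hi, hiu, rfl⟩ := exists_mul D.four₁ ho
    have hwO : w ∈ D.O := D.four₁.W_le hw
    have hwr : D.r * w * D.r⁻¹ = w := mul_inv_eq_iff_eq_mul.2 (D.four₁.mem_W.1 hw).2.symm
    have hir : D.r * i * D.r⁻¹ = i⁻¹ := hiu
    have hiT : i ∈ D.four₁.T := D.four₁.mem_T hi hiu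
    have c1 : x * w = w * x := hfix w hwO <| hW _ (mul_mem (inv_mem hwO) (hxO w hwO)) (by
      rw [← _root_.conj_mul, ← _root_.conj_inv, hwr, ← _root_.conj_mul, ← _root_.conj_mul, ← _root_.conj_inv, hrx, hwr,
        inv_inv, hcj w hwO]) (hcom w hwO)
    have hxi : D.r * (x * i * x⁻¹) * D.r⁻¹ = (x * i * x⁻¹)⁻¹ := by
      rw [← _root_.conj_mul, ← _root_.conj_mul, ← _root_.conj_inv, hrx, hir, inv_inv, hcj i⁻¹ (inv_mem hi)]
      group
    have hxiT : x * i * x⁻¹ ∈ D.four₁.T := D.four₁.mem_T (hxO i hi) hxi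
    have c2 : x * i = i * x := hfix i hi <| hB _ (mul_mem (inv_mem hi) (hxO i hi))
      (T_inverted D habel (mul_mem (inv_mem hiT) hxiT)) (hcom i hi)
    exact ((show Commute x w from c1).mul_right c2).eq

end Cfsg.Lib.GWD.Kill
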