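import Cfsg.Agent.GWDihedral.Proper.Spec
import Cfsg.Agent.InvolCalc.Dihedral
import Cfsg.Agent.FourGroupGW.Mixed.Invol

/-!
GW dihedral, the end: what an involution outside the top subgroup gives.
-/

set_option autoImplicit false
set_option linter.unusedSectionVars false
set_option linter.style.haveILetI false

namespace Cfsg.Lib.GWD

open Subgroup Cfsg.Lib.GenDihedral
open Cfsg.Lib.GW (Core qmap qmap_eq qmap_eq_one exists_conj_of_cong core_le le_normalizer_core)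

universe u

section abstr

variable {X : Type u} [Group X] [Finite X]

/-- An element of odd order commutes with what its square commutes with. -/
theorem commute_of_sq {b x : X} (ho : Odd (orderOf b)) (h : Commute (b * b) x) : Commute b x := by
  obtain ⟨k, hk⟩ := ho
  have e : b = (b * b) ^ (k + 1) := by
    rw [← pow_two, ← pow_mul, show 2 * (k + 1) = orderOf b + 1 by omega, pow_succ, pow_orderOf_eq_one, one_mul]
  exact e ▸ h.pow_left (k + 1)

/-- A self-centralising four-group of index 3 or 6: an element of odd order commuting with an involution is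
trivial. -/
theorem klein_odd_trivial {P : Subgroup X} [P.Normal] (hK : IsKleinFour P) (hC : centralizer (P : Set X) = P)
    {b t : X} (hbo : Odd (orderOf b)) (ht : orderOf t = 2) (hbt : b * t = t * b) : b = 1 := by
  have ht1 : t ≠ 1 := fun e => by rw [e, orderOf_one] at ht; omega
  have hsq : ∀ p ∈ P, p * p = 1 := fun p hp =>
    congrArg Subtype.val (Cfsg.Lib.GWFour.sq_of_klein (⟨p, hp⟩ : P))
  have hcP : ∀ p ∈ P, ∀ q ∈ P, p * q = q * p := fun p hp q hq =>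
    congrArg Subtype.val (Cfsg.Lib.GWFour.comm_of_klein (⟨p, hp⟩ : P) ⟨q, hq⟩)
  have hP4 : Nat.card P = 4 := hK.card_four
  have h4 : ∀ p q, p ∈ P → q ∈ P → p ≠ 1 → q ≠ 1 → p ≠ q → ∀ x ∈ P, x = 1 ∨ x = p ∨ x = q ∨ x = p * q := by
    intro p q hp hq hp1 hq1 hpq
    have F4 : IsFour p q (p * q) := isFour_of_comm (orderOf_eq_prime (by rw [pow_two, hsq p hp]) hp1)
      (orderOf_eq_prime (by rw [pow_two, hsq q hq]) hq1) (hcP p hp q hq) hpq
    have hle : Vg p q ≤ P := (closure_le P).2 (Set.insert_subset hp (Set.singleton_subset_iff.2 hq))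
    have hc : Nat.card (Vg p q) = 4 := F4.card
    intro x hx
    exact F4.mem_iff.1 ((Subgroup.eq_of_le_of_card_ge hle (by rw [hc, hP4])).ge hx)
  obtain ⟨p, hp, hp1, hpt, hpeq⟩ : ∃ p ∈ P, p ≠ 1 ∧ t * p = p * t ∧ (t ∈ P → p = t) := by
    by_cases htP : t ∈ P
    · exact ⟨t, htP, ht1, rfl, fun _ => rfl⟩
    obtain ⟨q, hq, hq1⟩ := P.bot_or_exists_ne_one.resolve_left fun e => by rw [e, card_bot] at hP4; omega
    have hq' : t * q * t⁻¹ ∈ P := Subgroup.Normal.conj_mem inferInstance q hq t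
    by_cases h : q * (t * q * t⁻¹) = 1
    · exact ⟨q, hq, hq1, mul_inv_eq_iff_eq_mul.1
        ((eq_inv_of_mul_eq_one_right h).trans (inv_eq_of_mul_eq_one_left (hsq q hq))), fun h' => absurd h' htP⟩
    · refine ⟨_, mul_mem hq hq', h, mul_inv_eq_iff_eq_mul.1 ?_, fun h' => absurd h' htP⟩
      rw [← _root_.conj_mul, conj_conj t t, mul_self_of_two ht, inv_one, mul_one, one_mul, hcP _ hq' _ hq]
  have hbp : b * p * b⁻¹ ∈ P := Subgroup.Normal.conj_mem inferInstance p hp b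
  -- `b` fixes `p`
  have hfix : b * p = p * b := by
    by_cases htP : t ∈ P
    · rw [hpeq htP]; exact hbt
    · -- `t` moves `q`, so it fixes only `p`
      have hbpt : t * (b * p * b⁻¹) * t⁻¹ = b * p * b⁻¹ := by
        rw [conj_conj, ← hbt, ← conj_conj, mul_inv_eq_iff_eq_mul.2 hpt]
      by_contra hne
      have hne' : b * p * b⁻¹ ≠ p := fun h => hne (mul_inv_eq_iff_eq_mul.1 h)
      refine htP (hC.le (mem_centralizer_iff.2 fun x hx => ?_))
      rcases h4 p _ hp hbp hp1 (fun h => hp1 (conj_eq_one_iff.1 h)) (Ne.symm hne') x hx with rfl | rfl | rfl | rfl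
      · simp
      · exact hpt.symm
      · exact (mul_inv_eq_iff_eq_mul.1 hbpt).symm
      · rw [mul_assoc, (mul_inv_eq_iff_eq_mul.1 hbpt).symm, ← mul_assoc, ← hpt, mul_assoc]
  have hbC : b ∈ centralizer (P : Set X) := mem_centralizer_iff.2 fun x hx => by
    have hbx : b * x * b⁻¹ ∈ P := Subgroup.Normal.conj_mem inferInstance x hx b
    have e1 : b * p * b⁻¹ = p := by rw [hfix, mul_inv_cancel_right]
    have hb2 : ∀ y ∈ P, (b * b) * y * (b * b)⁻¹ = y := by
      intro y hy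
      by_cases hy1 : y = 1
      · subst hy1; simp
      by_cases hyp : y = p
      · rw [hyp, ← conj_conj, e1, e1]
      have hby : b * y * b⁻¹ ∈ P := Subgroup.Normal.conj_mem inferInstance y hy b
      rw [← conj_conj]
      rcases h4 p y hp hy hp1 hy1 (Ne.symm hyp) _ hby with f | f | f | f
      · exact absurd (conj_eq_one_iff.1 f) hy1
      · exact absurd ((MulAut.conj b).injective (show b * y * b⁻¹ = b * p * b⁻¹ from f.trans e1.symm)) hyp
      · rw [f, f]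
      · rw [f, ← _root_.conj_mul, e1, f, ← mul_assoc, hsq p hp, one_mul]
    exact (commute_of_sq hbo (mul_inv_eq_iff_eq_mul.1 (hb2 x hx))).symm.eq
  rw [hC] at hbC
  have h2 : orderOf b ∣ 2 := orderOf_dvd_of_pow_eq_one (by rw [pow_two, hsq b hbC])
  exact orderOf_eq_one_iff.1 (Nat.eq_one_of_dvd_coprimes (Nat.coprime_two_right.2 hbo) dvd_rfl h2)

/-- In a group of 2-rank two, the involutions commuting with two commuting involutions are their products. -/
theorem four_cases (hr : RankTwo X) {a b c : X} (ha : orderOf a = 2) (hb : orderOf b = 2) (hc : orderOf c = 2)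
    (hab : a ≠ b) (h1 : a * b = b * a) (h2 : a * c = c * a) (h3 : b * c = c * b) : c = a ∨ c = b ∨ c = a * b := by
  have h := hr a b c (mul_self_of_two ha) (mul_self_of_two hb) (mul_self_of_two hc) h1 h2 h3
  rcases h with h | h | h | h | h | h | h
  · rw [h, orderOf_one] at ha; omega
  · rw [h, orderOf_one] at hb; omega
  · exact absurd h hab
  · rw [h, orderOf_one] at hc; omega
  exacts [Or.inl h, Or.inr (Or.inl h), Or.inr (Or.inr h)]

/-- An element of odd order of `L` commuting with an involution outside `L` has no order in common with the odd part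
of the centraliser in `L` of an involution of `L`. -/
theorem prime_not_torus {L : Subgroup X} (K : L2Like L) {t w v a : X} (ht : orderOf t = 2) (htL : t ∈ L)
    (hw : orderOf w = 2) (hwL : w ∉ L) (hv : v ∈ L) {q : ℕ} (hq : q.Prime) (hq2 : q ≠ 2) (hvq : orderOf v = q)
    (hvw : v * w = w * v) (ha : a ∈ L) (haq : orderOf a = q) (hat : a * t = t * a) : False := by
  haveI : Fact q.Prime := ⟨hq⟩
  haveI := K.normal
  have hqo : Odd q := hq.odd_of_ne_two hq2
  obtain ⟨Q, hQ⟩ := ((IsPGroup.of_card (G := zpowers a) (p := q) (n := 1) (by rw [Nat.card_zpowers, haq, pow_one])).of_equiv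
    (subgroupOfEquivOfLe (zpowers_le.2 ha)).symm).exists_le_sylow
  have haQ : (⟨a, ha⟩ : L) ∈ (Q : Subgroup L) := hQ (mem_subgroupOf.2 (mem_zpowers a))
  haveI : Nontrivial (Q : Subgroup L) := ⟨⟨⟨⟨a, ha⟩, haQ⟩, 1, fun e => by
    have e' : a = 1 := congrArg (fun x : (Q : Subgroup L) => ((x : L) : X)) e
    rw [e', orderOf_one] at haq
    exact hq.one_lt.ne haq⟩⟩
  haveI := Q.2.center_nontrivial
  obtain ⟨z, hz⟩ := exists_ne (1 : center (Q : Subgroup L))
  have hzq : ∀ x : L, x ∈ (Q : Subgroup L) → Commute ((((z : (Q : Subgroup L)) : L)) : X) (x : X) := fun x hx => by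
    have h := mem_center_iff.1 z.2 ⟨x, hx⟩
    exact (congrArg (fun y : (Q : Subgroup L) => ((y : L) : X)) h).symm
  set z' : X := (((z : (Q : Subgroup L)) : L) : X) with hz'
  have hz1 : z' ≠ 1 := fun e => hz (Subtype.ext (Subtype.ext (Subtype.ext e)))
  have hao : Odd (orderOf a) := haq ▸ hqo
  have hzo : Odd (orderOf z') := by
    obtain ⟨k, hk⟩ := IsPGroup.iff_orderOf.1 Q.2 (z : (Q : Subgroup L))
    rw [orderOf_coe, orderOf_coe, hk]
    exact hqo.pow
  have hzt : z' * t = t * z' :=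
    K.cent_tor_le ht ((K.mem_tor ht).2 ⟨ha, hat, hao⟩) (fun e => by rw [e, orderOf_one] at haq; exact hq.one_lt.ne haq)
      (hzq _ haQ)
  have hQt : ∀ x : L, x ∈ (Q : Subgroup L) → (x : X) * t = t * x := fun x hx =>
    K.cent_tor_le ht ((K.mem_tor ht).2 ⟨(z : (Q : Subgroup L)).1.2, hzt, hzo⟩) hz1 (hzq x hx).symm
  obtain ⟨R, hR⟩ := ((IsPGroup.of_card (G := zpowers v) (p := q) (n := 1) (by rw [Nat.card_zpowers, hvq, pow_one])).of_equiv
    (subgroupOfEquivOfLe (zpowers_le.2 hv)).symm).exists_le_sylow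
  obtain ⟨g, hg⟩ := MulAction.exists_smul_eq L R Q
  have hgv : g * (⟨v, hv⟩ : L) * g⁻¹ ∈ (Q : Subgroup L) := by
    rw [← hg]; exact ⟨_, hR (mem_subgroupOf.2 (mem_zpowers v)), rfl⟩
  have h1 := hQt _ hgv
  have h2 : v * ((g : X)⁻¹ * t * g) = (g : X)⁻¹ * t * g * v := by
    calc v * ((g : X)⁻¹ * t * g) = (g : X)⁻¹ * ((g : X) * v * (g : X)⁻¹ * t) * g := by group
      _ = (g : X)⁻¹ * (t * ((g : X) * v * (g : X)⁻¹)) * g := by
        simp only [Subgroup.coe_mul, Subgroup.coe_inv] at h1; rw [h1]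
      _ = _ := by group
  have htg : orderOf ((g : X)⁻¹ * t * g) = 2 := by
    have : (g : X)⁻¹ * t * g = MulAut.conj (g : X)⁻¹ t := by simp
    rw [this, MulEquiv.orderOf_eq, ht]
  refine hwL ?_
  rw [K.uniq w ((g : X)⁻¹ * t * g) v hw htg hv (hvq ▸ hqo) (fun e => by rw [e, orderOf_one] at hvq; exact hq.one_lt.ne hvq)
    hvw h2]
  have := Subgroup.Normal.conj_mem (inferInstance : L.Normal) t htL (g : X)⁻¹
  rwa [inv_inv] at this

/-- An involution `w` outside `L` commuting with `t`: unless the torus is trivial, `w` or `t * w` centralises an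
element of prime order of `L` inverted by `t`. -/
theorem exists_inverted_outer {L : Subgroup X} (D : TopData L) (hr : RankTwo X) {t u w y : X}
    (ht : orderOf t = 2) (hu : orderOf u = 2) (htu : t * u = u * t) (hne : t ≠ u) (htL : t ∈ L) (huL : u ∈ L)
    (hw : orderOf w = 2) (hwL : w ∉ L) (hwt : w * t = t * w) (hy1 : y ≠ 1) (hyo : Odd (orderOf y))
    (hyt : y * t = t * y) (hyu : u * y * u⁻¹ = y⁻¹) :
    ∃ v w' : X, (w' = w ∨ w' = t * w) ∧ v ∈ L ∧ (orderOf v).Prime ∧ Odd (orderOf v) ∧ t * v * t⁻¹ = v⁻¹ ∧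
      v * w' = w' * v := by
  classical
  haveI := D.normal
  by_contra hno
  push Not at hno
  have htt := mul_self_of_two ht
  have htne : t ≠ w := fun e => hwL (e ▸ htL)
  have htw : orderOf (t * w) = 2 := (isFour_of_comm ht hw hwt.symm htne).s2
  have hwt' : (t * w) * t = t * (t * w) := by rw [mul_assoc, hwt]
  have htwL : t * w ∉ L := fun h => hwL (by simpa [← mul_assoc, htt] using mul_mem htL h)
  have none : ∀ v w', (w' = w ∨ w' = t * w) → v ∈ L → Odd (orderOf v) → t * v * t⁻¹ = v⁻¹ →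
      v * w' = w' * v → v = 1 := by
    intro v w' hw' hv ho hi hc
    by_contra hv1
    obtain ⟨q, hq, hqd⟩ := Nat.exists_prime_and_dvd (fun h : orderOf v = 1 => hv1 (orderOf_eq_one_iff.1 h))
    set k := orderOf v / q
    have hk : orderOf (v ^ k) = q := orderOf_pow_orderOf_div (orderOf_pos v).ne' hqd
    refine hno (v ^ k) w' hw' (pow_mem hv k) (by rw [hk]; exact hq) (by rw [hk]; exact ho.of_dvd_nat hqd) ?_
      ((show Commute v w' from hc).pow_left k).eq
    rw [← conj_pow, hi, inv_pow]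
  -- the only involution of `L` commuting with `w` or with `t * w` is `t`
  have huniq : ∀ z w', (w' = w ∨ w' = t * w) → z ∈ L → orderOf z = 2 → z * w' = w' * z → z = t := by
    intro z w' hw' hzL hz hzw
    obtain ⟨hw'2, hw'L, hw't⟩ : orderOf w' = 2 ∧ w' ∉ L ∧ w' * t = t * w' := by
      rcases hw' with rfl | rfl
      exacts [⟨hw, hwL, hwt⟩, ⟨htw, htwL, hwt'⟩]
    have htw' : t ≠ w' := fun e => hw'L (e ▸ htL)
    have hrk : ∀ y ∈ L, orderOf y = 2 → y * t = t * y → y * w' = w' * y → y = t := fun y hyL hy2 h1 h2 => by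
      rcases four_cases hr ht hw'2 hy2 htw' hw't.symm h1.symm h2.symm with e | e | e
      · exact e
      · exact absurd (e ▸ hyL) hw'L
      · have h' := mul_mem htL hyL
        rw [e, ← mul_assoc, htt, one_mul] at h'
        exact absurd h' hw'L
    have hzz := mul_self_of_two hz
    set d := z * t with hd
    have hdL : d ∈ L := mul_mem hzL htL
    have hdt : t * d * t⁻¹ = d⁻¹ := by
      rw [hd, mul_inv_rev, inv_of_two hz, inv_of_two ht, show t * (z * t) * t = t * z * (t * t) by group, htt, mul_one]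
    have hdw : d * w' = w' * d := ((show Commute z w' from hzw).mul_left hw't.symm).eq
    obtain ⟨k, m, hm, hkm⟩ := Nat.exists_eq_pow_mul_and_not_dvd (orderOf_pos d).ne' 2 (by norm_num)
    have hm1 : d ^ 2 ^ k = 1 := by
      refine none _ w' hw' (pow_mem hdL _) ?_ (by rw [← conj_pow, hdt, inv_pow]) ((show Commute d w' from hdw).pow_left _).eq
      rw [orderOf_pow_of_dvd (by positivity) (hkm ▸ dvd_mul_right _ _), hkm, Nat.mul_div_cancel_left _ (Nat.two_pow_pos k)]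
      exact Nat.not_even_iff_odd.1 fun h => hm (even_iff_two_dvd.1 h)
    obtain ⟨j, -, hj⟩ := (Nat.dvd_prime_pow Nat.prime_two).1 (orderOf_dvd_of_pow_eq_one hm1)
    rcases j with _ | j
    · have : d = 1 := orderOf_eq_one_iff.1 (by simpa using hj)
      rw [hd] at this
      exact (eq_inv_of_mul_eq_one_left this).trans (inv_of_two ht)
    set c := d ^ 2 ^ j with hcd
    have hc2 : orderOf c = 2 := by
      rw [hcd, orderOf_pow_of_dvd (by positivity) (hj ▸ pow_dvd_pow 2 (by omega)), hj, pow_succ,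
        Nat.mul_div_cancel_left _ (Nat.two_pow_pos j)]
    have hct : t * c * t⁻¹ = c := by
      rw [hcd, ← conj_pow, hdt, inv_pow, ← hcd, inv_of_two hc2]
    have hceq := hrk c (pow_mem hdL _) hc2 (mul_inv_eq_iff_eq_mul.1 hct).symm ((show Commute d w' from hdw).pow_left _).eq
    have hzd : z * d * z⁻¹ = d⁻¹ := by
      rw [hd, mul_inv_rev, inv_of_two hz, inv_of_two ht, ← mul_assoc, hzz, one_mul]
    refine hrk z hzL hz ?_ hzw
    have h1 : z * t * z⁻¹ = t := by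
      conv_lhs => rw [← hceq, hcd, ← conj_pow, hzd, inv_pow, ← hcd, hceq, inv_of_two ht]
    exact mul_inv_eq_iff_eq_mul.1 h1
  -- so every involution of `L` commutes with `t`
  have hall : ∀ z ∈ L, orderOf z = 2 → z * t = t * z := by
    intro z hzL hz
    obtain ⟨j, hj | hj⟩ := Nat.even_or_odd' (orderOf (z * w))
    swap
    · obtain ⟨x, -, hx⟩ := Cfsg.Lib.InvolCalc.conj_of_odd hz hw ⟨j, hj⟩
      exact absurd (hx ▸ Subgroup.Normal.conj_mem inferInstance z hzL x) hwL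
    have hpos := orderOf_pos (z * w)
    set y := (z * w) ^ j with hyd
    have hy2 : orderOf y = 2 := by
      rw [hyd, orderOf_pow_of_dvd (by omega) (hj ▸ dvd_mul_left _ _), hj, Nat.mul_div_cancel _ (by omega)]
    have hyz : y * z = z * y := by
      have h1 : z * (z * w) * z⁻¹ = (z * w)⁻¹ := by
        rw [mul_inv_rev, inv_of_two hz, inv_of_two hw, ← mul_assoc, mul_self_of_two hz, one_mul]
      have h2 : z * y * z⁻¹ = y := by rw [hyd, ← conj_pow, h1, inv_pow, ← hyd, inv_of_two hy2]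
      exact (mul_inv_eq_iff_eq_mul.1 h2).symm
    have hyw : y * w = w * y := by
      have h1 : w * (z * w) * w⁻¹ = (z * w)⁻¹ := by
        rw [mul_inv_rev, inv_of_two hz, inv_of_two hw, mul_assoc, mul_assoc z, mul_self_of_two hw, mul_one]
      have h2 : w * y * w⁻¹ = y := by rw [hyd, ← conj_pow, h1, inv_pow, ← hyd, inv_of_two hy2]
      exact (mul_inv_eq_iff_eq_mul.1 h2).symm
    by_cases hyL : y ∈ L
    · rw [← huniq y w (Or.inl rfl) hyL hy2 hyw]; exact hyz.symm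
    by_cases hyew : y = w
    · rw [huniq z w (Or.inl rfl) hzL hz (hyew ▸ hyz.symm)]
    have h := huniq (y * w) w (Or.inl rfl) (D.coset y w hy2 hw hyL hwL) (isFour_of_comm hy2 hw hyw hyew).s2
      ((show Commute y w from hyw).mul_left (Commute.refl w)).eq
    have hy : y = t * w := by rw [← h, mul_assoc, mul_self_of_two hw, mul_one]
    rw [huniq z (t * w) (Or.inr rfl) hzL hz (hy ▸ hyz.symm)]
  have hcomm : ∀ a b, a ∈ L → b ∈ L → orderOf a = 2 → orderOf b = 2 → a * b = b * a := fun a b ha hb ha2 hb2 => by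
    obtain ⟨l, hl, hlt⟩ := D.conj a t ha2 ht ha htL
    have h := hall _ (Subgroup.Normal.conj_mem inferInstance b hb l) (by rw [← MulAut.conj_apply, MulEquiv.orderOf_eq, hb2])
    rw [← hlt, _root_.conj_mul, _root_.conj_mul] at h
    exact ((MulAut.conj l).injective h).symm
  have hu' : orderOf (y * u * y⁻¹) = 2 := by rw [← MulAut.conj_apply, MulEquiv.orderOf_eq, hu]
  have hu'L : y * u * y⁻¹ ∈ L := Subgroup.Normal.conj_mem inferInstance u huL y
  have hyy : y * t * y⁻¹ = t := by rw [hyt, mul_inv_cancel_right]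
  have hfix : Commute y u := by
    rcases four_cases hr ht hu hu' hne htu (hcomm _ _ htL hu'L ht hu') (hcomm _ _ huL hu'L hu hu') with e | e | e
    · exact absurd ((MulAut.conj y).injective (show y * t * y⁻¹ = y * u * y⁻¹ by rw [hyy, e])) hne
    · exact mul_inv_eq_iff_eq_mul.1 e
    · refine commute_of_sq hyo (mul_inv_eq_iff_eq_mul.1 ?_)
      rw [← Cfsg.Lib.GenDihedral.conj_conj, e, ← _root_.conj_mul, hyy, e, ← mul_assoc, htt, one_mul]
  refine hy1 (eq_one_of_sq_of_odd ?_ hyo)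
  rw [← hfix.eq, mul_inv_cancel_right] at hyu
  nth_rw 1 [hyu]
  exact inv_mul_cancel y

end abstr

end Cfsg.Lib.GWD

namespace Cfsg.Lib.GWD

open Subgroup Cfsg.Lib.GenDihedral
open Cfsg.Lib.GW (Core qmap qmap_eq qmap_eq_one exists_conj_of_cong core_le le_normalizer_core)
open Cfsg.Lib.GW.Frame (odd_card_core)

universe u

section hlevel

variable {G : Type u} [Group G] [Finite G] {H : Subgroup G}

theorem zpow_order_dvd {Y : Type*} [Group Y] (x : Y) (n : ℤ) : orderOf (x ^ n) ∣ orderOf x :=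
  orderOf_dvd_of_pow_eq_one (by
    rw [← zpow_natCast, ← zpow_mul, mul_comm, zpow_mul, zpow_natCast, pow_orderOf_eq_one, one_zpow])

/-- The cases, with the linear-like structure of the top unless it is the whole quotient. -/
theorem Minimal.cases_l2 (hm : Minimal G) (V : Cfsg.Lib.GW.Frame G) (hU : V.U ≤ H) (hH : H ≠ ⊤) :
    IsPGroup 2 (H ⧸ Cfsg.oddCore H) ∨
      ∃ L : Subgroup (H ⧸ Cfsg.oddCore H), TopData L ∧ ¬ 4 ∣ L.index ∧ (L = ⊤ ∨ L2Like L) := by
  have hr := hm.rankTwo_q V hU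
  rcases hm.shape H hH with h | ⟨P, hP, hK, hC, hi⟩ | ⟨N, hN, hD, h4, hC⟩
  · exact Or.inl h
  · haveI := hP
    obtain ⟨L, hL, hL4⟩ := topData_of_klein hK hC hi
    refine Or.inr ⟨L, hL, hL4, Or.inr ⟨hL.normal, hL.coset, fun t x y ht _ _ hxo _ hxt _ => ?_,
      fun t t' x ht _ _ hxo hx1 hxt _ => absurd (klein_odd_trivial hK hC hxo ht hxt) hx1, fun t ht A _ hA => ?_⟩⟩
    · rw [klein_odd_trivial hK hC hxo ht hxt, one_mul, mul_one]
    · have : A = ⊥ := (Subgroup.eq_bot_iff_forall A).2 fun x hx =>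
        klein_odd_trivial hK hC (hA x hx).1 ht (hA x hx).2
      rw [this]; infer_instance
  · haveI := hN
    rcases hD with ⟨F, i, j, ho, h5, ⟨e⟩⟩ | ⟨⟨e⟩⟩
    · exact Or.inr ⟨N, topData_of_psl ho e hC hr, h4, Or.inr (l2Like_of_psl ho e hC hr)⟩
    · obtain ⟨hN', hT⟩ := topData_of_alt e hC hr
      subst hN'
      exact Or.inr ⟨⊤, hT, h4, Or.inl rfl⟩

theorem conj_pow_fix {e h t : G} {k : ℤ} (hk : h * e * h⁻¹ = e ^ k) (hte : t * e = e * t) :
    h * t * h⁻¹ * e = e * (h * t * h⁻¹) := by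
  have h1 : Commute (h * t * h⁻¹) (h * e * h⁻¹) := (show Commute t e from hte).map (MulAut.conj h).toMonoidHom
  have h2 : Commute t (e ^ k) := (show Commute t e from hte).zpow_right k
  obtain ⟨n, hn, hn1⟩ : ∃ n, 0 < n ∧ h ^ n = 1 := ⟨orderOf h, orderOf_pos h, pow_orderOf_eq_one h⟩
  -- `e` is a power of `h * e * h⁻¹`
  have hle : zpowers (h * e * h⁻¹) ≤ zpowers e := zpowers_le.2 ⟨k, hk.symm⟩
  have hc : Nat.card (zpowers e) ≤ Nat.card (zpowers (h * e * h⁻¹)) := by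
    rw [Nat.card_zpowers, Nat.card_zpowers]
    exact (MulEquiv.orderOf_eq (MulAut.conj h) e).ge
  obtain ⟨j, hj⟩ := mem_zpowers_iff.1 ((Subgroup.eq_of_le_of_card_ge hle hc).ge (mem_zpowers e))
  rw [← hj]
  exact (h1.zpow_right j).eq

theorem exists_zpow_conj {e h : G} (hh : h ∈ normalizer ((zpowers e : Subgroup G) : Set G)) :
    ∃ k : ℤ, h * e * h⁻¹ = e ^ k := by
  obtain ⟨k, hk⟩ := mem_zpowers_iff.1 ((mem_normalizer_iff.1 hh e).1 (mem_zpowers e))
  exact ⟨k, hk.symm⟩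

variable (V : Cfsg.Lib.GW.Frame G)

/-- In a subgroup normalising `⟨e⟩` no involution inverting `e` lies in the top, if `t` centralises `e`. -/
theorem not_mem_top {L : Subgroup (H ⧸ Cfsg.oddCore H)} (D : TopData L) (hU : V.U ≤ H) (ht : V.tb hU ∈ L)
    {e : G} (he : Odd (orderOf e)) (he1 : e ≠ 1) (hHe : H ≤ normalizer ((zpowers e : Subgroup G) : Set G))
    (hte : V.t * e = e * V.t) {w : G} (hw : orderOf w = 2) (hwH : w ∈ H) (hwe : w * e * w⁻¹ = e⁻¹) :
    qmap H ⟨w, hwH⟩ ∉ L := by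
  intro hwL
  have hww : w * w = 1 := mul_self_of_two hw
  have hw' : orderOf (qmap H ⟨w, hwH⟩) = 2 := orderOf_eq_prime (by
    rw [pow_two, ← map_mul, show (⟨w, hwH⟩ : H) * ⟨w, hwH⟩ = 1 from Subtype.ext hww, map_one]) fun e' =>
      V.two_not_mem_core hU hw (qmap_eq_one.1 e')
  obtain ⟨l, -, hl⟩ := D.conj _ _ (V.four_q hU).z2 hw' ht hwL
  obtain ⟨g, rfl⟩ := QuotientGroup.mk'_surjective _ l
  have htH : V.t ∈ H := (V.U_le_iff.1 hU).1
  have hcong : qmap H (g * ⟨V.t, htH⟩ * g⁻¹) = qmap H ⟨w, hwH⟩ := by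
    rw [map_mul, map_mul, map_inv]; exact hl
  rw [qmap_eq] at hcong
  set τ : G := (g : G) * V.t * (g : G)⁻¹ with hτ
  have hττ : τ * τ = 1 := by rw [hτ, conj_mul, V.t_sq]; group
  have hmem : τ * w ∈ Core H := by
    have h' : τ⁻¹ * w ∈ Core H := hcong
    rwa [inv_eq_of_mul_eq_one_right hττ] at h'
  obtain ⟨x, hx, hxw⟩ := exists_conj_of_cong (odd_card_core H) hττ hww hmem
  obtain ⟨k, hk⟩ := exists_zpow_conj (hHe (mul_mem (inv_mem (core_le H hx)) g.2))
  have hc := conj_pow_fix hk hte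
  rw [show x⁻¹ * (g : G) * V.t * (x⁻¹ * (g : G))⁻¹ = x⁻¹ * τ * x by rw [hτ]; group, hxw] at hc
  refine he1 (eq_one_of_sq_of_odd ?_ he)
  rw [hc, mul_inv_cancel_right] at hwe
  nth_rw 1 [hwe]
  exact inv_mul_cancel e

/-- OUT: a rotated four-group `⟨t, u⟩` centralising `e` and an involution `w` inverting `e`. -/
theorem Minimal.outer (hm : Minimal G) (hH : H ≠ ⊤) (hR : Rot V H) {e : G} (he : Odd (orderOf e)) (he1 : e ≠ 1)
    (hHe : H ≤ normalizer ((zpowers e : Subgroup G) : Set G)) (hte : V.t * e = e * V.t) {w : G}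
    (hw : orderOf w = 2) (hwH : w ∈ H) (hwt : w * V.t = V.t * w) (hwe : w * e * w⁻¹ = e⁻¹) {y : G}
    (hy : y ∈ H ⊓ V.O) (hyu : V.u * y * V.u⁻¹ = y⁻¹) (hy1 : y ∉ Core H) :
    ∃ v w' : G, ∃ q : ℕ, q.Prime ∧ q ≠ 2 ∧ v ∈ H ∧ orderOf v = q ∧ V.t * v * V.t⁻¹ = v⁻¹ ∧ (w' = w ∨ w' = V.t * w) ∧
      v * w' = w' * v ∧ v * e = e * v ∧ w' * e * w'⁻¹ = e⁻¹ ∧
      ∀ x ∈ H ⊓ V.O, V.u * x * V.u⁻¹ = x⁻¹ → orderOf x = q → x ∈ Core H := by
  have hU := hR.1
  rcases hm.cases_l2 V hU hH with h2 | ⟨L, D, -, hK⟩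
  · exact absurd hR (not_rot_of_two V h2)
  have hr := hm.rankTwo_q V hU
  haveI := D.normal
  obtain ⟨htL, huL⟩ := (rot_iff V hU D).1 hR
  have hwL := not_mem_top V D hU htL he he1 hHe hte hw hwH hwe
  have K : L2Like L := hK.resolve_left fun h => hwL (h ▸ mem_top _)
  have F4 := V.four_q hU
  have htH : V.t ∈ H := (V.U_le_iff.1 hU).1
  have himg : ∀ x ∈ H ⊓ V.O, ∀ (hx : x ∈ H), V.u * x * V.u⁻¹ = x⁻¹ →
      qmap H ⟨x, hx⟩ ∈ L ∧ qmap H ⟨x, hx⟩ * V.tb hU = V.tb hU * qmap H ⟨x, hx⟩ ∧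
        Odd (orderOf (qmap H ⟨x, hx⟩)) ∧ V.ub hU * qmap H ⟨x, hx⟩ * (V.ub hU)⁻¹ = (qmap H ⟨x, hx⟩)⁻¹ := by
    intro x hxm hx hxi
    have ho : Odd (orderOf (qmap H ⟨x, hx⟩)) := (Cfsg.Lib.GW.Frame.odd_orderOf V.odd_card_O hxm.2).of_dvd_nat
      ((orderOf_map_dvd _ _).trans (Subgroup.orderOf_mk x hx).dvd)
    have hi : V.ub hU * qmap H ⟨x, hx⟩ * (V.ub hU)⁻¹ = (qmap H ⟨x, hx⟩)⁻¹ := by
      rw [Cfsg.Lib.GW.Frame.ub, ← map_inv, ← map_inv, ← map_mul, ← map_mul]
      exact congrArg _ (Subtype.ext hxi)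
    refine ⟨D.mem_of_inverted F4.t2 ho hi, ?_, ho, hi⟩
    rw [Cfsg.Lib.GW.Frame.tb, ← map_mul, ← map_mul]
    exact congrArg _ (Subtype.ext (((hm.mem_O V).1 hxm.2).1))
  have hwb : orderOf (qmap H ⟨w, hwH⟩) = 2 := orderOf_eq_prime (by
    rw [pow_two, ← map_mul, show (⟨w, hwH⟩ : H) * ⟨w, hwH⟩ = 1 from Subtype.ext (mul_self_of_two hw), map_one])
      fun e' => V.two_not_mem_core hU hw (qmap_eq_one.1 e')
  have hwtb : qmap H ⟨w, hwH⟩ * V.tb hU = V.tb hU * qmap H ⟨w, hwH⟩ := by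
    rw [Cfsg.Lib.GW.Frame.tb, ← map_mul, ← map_mul]
    exact congrArg _ (Subtype.ext hwt)
  obtain ⟨hyL, hyt, hyo, hyi⟩ := himg y hy hy.1 hyu
  obtain ⟨v', wb, hwb', hvL, hvq, hvo, hvt, hvw⟩ := exists_inverted_outer D hr F4.z2 F4.t2 F4.comm F4.ne_zt htL huL
    hwb hwL hwtb (fun h => hy1 (qmap_eq_one.1 h)) hyo hyt hyi
  set q := orderOf v' with hqdef
  haveI : Fact q.Prime := ⟨hvq⟩
  have hq2 : q ≠ 2 := fun h => by rw [h] at hvo; exact absurd hvo (by decide)
  -- the involution of `H` over `wb`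
  obtain ⟨w', hw'c, hw'H, hw'2, hw't, hw'b, hw'e⟩ : ∃ w' : G, (w' = w ∨ w' = V.t * w) ∧ ∃ h : w' ∈ H,
      w' * w' = 1 ∧ w' * V.t = V.t * w' ∧ qmap H ⟨w', h⟩ = wb ∧ w' * e * w'⁻¹ = e⁻¹ := by
    rcases hwb' with h | h
    · exact ⟨w, Or.inl rfl, hwH, mul_self_of_two hw, hwt, h.symm, hwe⟩
    · refine ⟨V.t * w, Or.inr rfl, mul_mem htH hwH, ?_, ?_, ?_, ?_⟩
      · rw [show V.t * w * (V.t * w) = V.t * (w * V.t) * w by group, hwt, ← mul_assoc V.t, V.t_sq, one_mul,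
          mul_self_of_two hw]
      · rw [mul_assoc, hwt]
      · rw [h, Cfsg.Lib.GW.Frame.tb, ← map_mul]; rfl
      · rw [← Cfsg.Lib.GenDihedral.conj_conj, hwe]
        have hc : Commute V.t e⁻¹ := (show Commute V.t e from hte).inv_right
        rw [hc.eq, mul_inv_cancel_right]
  -- the preimage of `⟨v'⟩`
  set P := (zpowers v').comap (qmap H) with hPdef
  set PG := P.map H.subtype with hPG
  have hPG' : ∀ x, x ∈ PG ↔ ∃ h : x ∈ H, qmap H ⟨x, h⟩ ∈ zpowers v' := fun x => by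
    constructor
    · rintro ⟨x, hx, rfl⟩
      exact ⟨x.2, hx⟩
    · rintro ⟨h, hx⟩
      exact ⟨⟨x, h⟩, hx, rfl⟩
  have hPodd : Odd (Nat.card PG) := by
    rw [← Nat.not_even_iff_odd, even_iff_two_dvd]
    intro h
    haveI : Fact (Nat.Prime 2) := ⟨Nat.prime_two⟩
    obtain ⟨x, hx⟩ := exists_prime_orderOf_dvd_card' 2 h
    rw [← orderOf_coe] at hx
    obtain ⟨hxH, hxv⟩ := (hPG' (x : G)).1 x.2
    refine V.two_not_mem_core hU hx (qmap_eq_one.1 (orderOf_eq_one_iff.1 ?_ : qmap H ⟨x, hxH⟩ = 1))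
    obtain ⟨n, hn⟩ := mem_zpowers_iff.1 hxv
    refine Nat.eq_one_of_dvd_coprimes (Nat.coprime_two_left.2 hvo) ?_ (hn ▸ zpow_order_dvd _ _)
    exact ((orderOf_map_dvd _ _).trans (Subgroup.orderOf_mk (x : G) hxH).dvd).trans hx.dvd
  have hnorm : ∀ s ∈ H, (∀ (h : s ∈ H), qmap H ⟨s, h⟩ * v' * (qmap H ⟨s, h⟩)⁻¹ ∈ zpowers v') →
      s ∈ normalizer (PG : Set G) := by
    intro s hs hsv
    rw [mem_normalizer_iff_map_conj_eq]
    refine Subgroup.eq_of_le_of_card_ge ?_ (card_map_of_injective (MulAut.conj s).injective).ge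
    rintro _ ⟨x, hx, rfl⟩
    obtain ⟨hxH, hxv⟩ := (hPG' x).1 hx
    obtain ⟨n, hn⟩ := mem_zpowers_iff.1 hxv
    refine (hPG' _).2 ⟨mul_mem (mul_mem hs hxH) (inv_mem hs), ?_⟩
    show qmap H (⟨s, hs⟩ * ⟨x, hxH⟩ * (⟨s, hs⟩ : H)⁻¹) ∈ _
    rw [map_mul, map_mul, map_inv, ← hn, ← conj_zpow]
    exact zpow_mem (hsv hs) n
  have htN : V.t ∈ normalizer (PG : Set G) := hnorm _ htH fun h => by
    show V.tb hU * v' * (V.tb hU)⁻¹ ∈ _
    rw [hvt]; exact inv_mem (mem_zpowers _)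
  have hwN : w' ∈ normalizer (PG : Set G) := hnorm _ hw'H fun h => by
    rw [hw'b, ← hvw, mul_inv_cancel_right]; exact mem_zpowers _
  obtain ⟨x₀, rfl⟩ := QuotientGroup.mk'_surjective (Cfsg.oddCore H) v'
  obtain ⟨f, hf, i, hi, hwf, hwi, hxfi⟩ := Cfsg.Lib.GW.Mixed.Invol.decomp hw'2 hPodd hwN
    ((hPG' (x₀ : G)).2 ⟨x₀.2, mem_zpowers _⟩)
  obtain ⟨hiH, hiv⟩ := (hPG' i).1 hi
  have hi1 : qmap H ⟨i, hiH⟩ = 1 := by
    obtain ⟨n, hn⟩ := mem_zpowers_iff.1 hiv
    have h1 : qmap H ⟨w', hw'H⟩ * qmap H ⟨i, hiH⟩ * (qmap H ⟨w', hw'H⟩)⁻¹ = (qmap H ⟨i, hiH⟩)⁻¹ := by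
      rw [← map_inv, ← map_inv, ← map_mul, ← map_mul]
      exact congrArg _ (Subtype.ext hwi)
    have h2 : Commute (qmap H ⟨w', hw'H⟩) (qmap H ⟨i, hiH⟩) := by
      rw [hw'b, ← hn]; exact (show Commute _ wb from hvw).symm.zpow_right n
    refine eq_one_of_sq_of_odd ?_ (hvo.of_dvd_nat (by rw [← hn]; exact zpow_order_dvd _ _))
    rw [h2.eq, mul_inv_cancel_right] at h1
    nth_rw 1 [h1]
    exact inv_mul_cancel _
  obtain ⟨hfH, hfv⟩ := (hPG' f).1 hf
  have hfb : qmap H ⟨f, hfH⟩ = qmap H x₀ := by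
    have h : x₀ = ⟨f, hfH⟩ * ⟨i, hiH⟩ := Subtype.ext hxfi
    rw [h, map_mul, hi1, mul_one]
  have hKodd : Odd (Nat.card ↥(PG ⊓ centralizer ({w'} : Set G))) := hPodd.of_dvd_nat (card_dvd_of_le inf_le_left)
  have htN' : V.t ∈ normalizer ((PG ⊓ centralizer ({w'} : Set G) : Subgroup G) : Set G) := by
    refine inf_normalizer_le_normalizer_inf ⟨htN, ?_⟩
    exact le_normalizer (mem_centralizer_singleton_iff.2 hw't.symm)
  obtain ⟨f₀, hf₀, i₀, hi₀, htf, hti, hffi⟩ := Cfsg.Lib.GW.Mixed.Invol.decomp V.t_sq hKodd htN'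
    (k := f) ⟨hf, mem_centralizer_singleton_iff.2 hwf.symm⟩
  obtain ⟨hi₀H, hi₀v⟩ := (hPG' i₀).1 hi₀.1
  obtain ⟨hf₀H, hf₀v⟩ := (hPG' f₀).1 hf₀.1
  have hf₀1 : qmap H ⟨f₀, hf₀H⟩ = 1 := by
    obtain ⟨n, hn⟩ := mem_zpowers_iff.1 hf₀v
    have h1 : V.tb hU * qmap H ⟨f₀, hf₀H⟩ * (V.tb hU)⁻¹ = (qmap H ⟨f₀, hf₀H⟩)⁻¹ := by
      rw [← hn, ← conj_zpow, hvt, inv_zpow]
    have h2 : Commute (V.tb hU) (qmap H ⟨f₀, hf₀H⟩) := by
      rw [commute_iff_eq, Cfsg.Lib.GW.Frame.tb, ← map_mul, ← map_mul]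
      exact congrArg _ (Subtype.ext htf)
    refine eq_one_of_sq_of_odd ?_ (hvo.of_dvd_nat (by rw [← hn]; exact zpow_order_dvd _ _))
    rw [h2.eq, mul_inv_cancel_right] at h1
    nth_rw 1 [h1]
    exact inv_mul_cancel _
  have hi₀b : qmap H ⟨i₀, hi₀H⟩ = qmap H x₀ := by
    rw [← hfb, show (⟨f, hfH⟩ : H) = ⟨f₀, hf₀H⟩ * ⟨i₀, hi₀H⟩ from Subtype.ext hffi, map_mul, hf₀1, one_mul]
  have hqd : q ∣ orderOf i₀ := by
    have h := orderOf_map_dvd (qmap H) (⟨i₀, hi₀H⟩ : H)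
    rw [hi₀b, Subgroup.orderOf_mk] at h
    exact h
  set k := orderOf i₀ / q
  have hvord : orderOf (i₀ ^ k) = q := orderOf_pow_orderOf_div (orderOf_pos i₀).ne' hqd
  have hvtv : V.t * i₀ ^ k * V.t⁻¹ = (i₀ ^ k)⁻¹ := by rw [← conj_pow, hti, inv_pow]
  refine ⟨i₀ ^ k, w', q, hvq, hq2, pow_mem hi₀H k, hvord, hvtv, hw'c,
    ((show Commute i₀ w' from mem_centralizer_singleton_iff.1 hi₀.2).pow_left k).eq, ?_, hw'e, ?_⟩
  · -- an element inverted by `t` acting on `⟨e⟩`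
    set v := i₀ ^ k
    obtain ⟨n, hn⟩ := exists_zpow_conj (hHe (pow_mem hi₀H k : v ∈ H))
    have hc : Commute V.t (e ^ n) := (show Commute V.t e from hte).zpow_right n
    have h1 : v⁻¹ * e * v = e ^ n := by
      have : V.t * (v * e * v⁻¹) * V.t⁻¹ = V.t * e ^ n * V.t⁻¹ := by rw [hn]
      rw [show V.t * (v * e * v⁻¹) * V.t⁻¹ =
        (V.t * v * V.t⁻¹) * (V.t * e * V.t⁻¹) * (V.t * v * V.t⁻¹)⁻¹ by group, hvtv, hte, mul_inv_cancel_right,
        inv_inv, hc.eq, mul_inv_cancel_right] at this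
      exact this
    have h2 : Commute (v * v) e := mul_inv_eq_iff_eq_mul.1 (by
      calc v * v * e * (v * v)⁻¹ = v * (v * e * v⁻¹) * v⁻¹ := by group
        _ = v * (v⁻¹ * e * v) * v⁻¹ := by rw [hn, h1]
        _ = e := by group)
    exact (commute_of_sq (hvord ▸ hvo) h2).eq
  · intro x hx hxi hxq
    by_contra hxc
    obtain ⟨hxL, hxt, -, -⟩ := himg x hx hx.1 hxi
    refine prime_not_torus K F4.z2 htL (hw'b ▸ ?_ : orderOf wb = 2) ?_ hvL hvq hq2 hqdef.symm ?_ hxL ?_ hxt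
    · exact orderOf_eq_prime (by
        rw [pow_two, ← map_mul, show (⟨w', hw'H⟩ : H) * ⟨w', hw'H⟩ = 1 from Subtype.ext hw'2, map_one])
        fun e' => V.two_not_mem_core hU (orderOf_eq_prime (by rw [pow_two, hw'2])
          fun h1 => he1 (by
            have := hw'e; rw [show w' = 1 from h1, one_mul, inv_one, mul_one] at this
            exact eq_one_of_sq_of_odd (by nth_rw 1 [this]; exact inv_mul_cancel e) he)) (qmap_eq_one.1 e')
    · rcases hwb' with h | h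
      · exact h ▸ hwL
      · rw [h]; intro h'
        exact hwL (by
          have := mul_mem htL h'
          rwa [← mul_assoc, mul_self_of_two F4.z2, one_mul] at this)
    · exact hvw
    · refine ((Nat.dvd_prime hvq).1 ?_).resolve_left fun h1 => hxc (qmap_eq_one.1 (orderOf_eq_one_iff.1 h1))
      exact hxq ▸ (orderOf_map_dvd _ _).trans (Subgroup.orderOf_mk x hx.1).dvd

end hlevel

end Cfsg.Lib.GWD
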